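import Groth.Agent.InvExtend.CartierCriterion
import Mathlib.RingTheory.DiscreteValuationRing.TFAE

/-! The complement of a dense affine open has codimension one at factorial points. -/

set_option linter.style.haveILetI false

namespace Groth.Agent.InvExtend

open AlgebraicGeometry CategoryTheory TopologicalSpace

universe u

variable {X : Scheme.{u}} [IsLocallyNoetherian X] {U : X.Opens}

theorem ringKrullDim_stalk_eq_one_of_affine_compl (hdense : Dense (U : Set X)) {W₀ : X.Opens}
    (hW : IsAffineOpen W₀) (hUW : IsAffineOpen (W₀ ⊓ U)) {z : X} (hzW : z ∈ W₀) (hz : z ∉ U)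
    (hmax : ∀ y : X, y ⤳ z → y ∉ U → y = z) [IsDomain (X.presheaf.stalk z)]
    [UniqueFactorizationMonoid (X.presheaf.stalk z)] :
    ringKrullDim (X.presheaf.stalk z) = 1 := by
  classical
  haveI : IsNoetherianRing Γ(X, W₀) := IsLocallyNoetherian.component_noetherian (X := X) ⟨W₀, hW⟩
  letI := TopCat.Presheaf.algebra_section_stalk X.presheaf (⟨z, hzW⟩ : W₀)
  haveI hloc := hW.isLocalization_stalk ⟨z, hzW⟩
  let p := (hW.primeIdealOf ⟨z, hzW⟩).asIdeal
  haveI : IsNoetherianRing (X.presheaf.stalk z) := IsLocalization.isNoetherianRing p.primeCompl _ inferInstance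
  obtain ⟨S, hSU, hspan⟩ := (Submodule.fg_span_iff_fg_span_finset_subset {g : Γ(X, W₀) | X.basicOpen g ≤ U}).mp
    (IsNoetherian.noetherian (Submodule.span Γ(X, W₀) {g : Γ(X, W₀) | X.basicOpen g ≤ U}))
  have hcover : ∀ y (hy : y ∈ W₀), y ∈ U → ∃ g ∈ S, y ∈ X.basicOpen g := by
    intro y hy hyU
    obtain ⟨g, hgle, hyg⟩ := hW.exists_basicOpen_le (V := U) ⟨y, hyU⟩ hy
    by_contra hc
    push Not at hc
    have hle : Ideal.span (S : Set Γ(X, W₀)) ≤ (hW.primeIdealOf ⟨y, hy⟩).asIdeal :=
      Ideal.span_le.mpr fun t ht => not_not.mp (mt (mem_basicOpen_iff hW hy t).mpr (hc t ht))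
    exact (mem_basicOpen_iff hW hy g).mp hyg (hle (hspan.le (Submodule.subset_span hgle)))
  let R := X.presheaf.stalk z
  let a : Γ(X, W₀) →+* R := algebraMap Γ(X, W₀) R
  have hgp : ∀ g ∈ S, g ∈ p := fun g hg => by
    by_contra hgp
    exact hz (hSU hg ((mem_basicOpen_iff hW hzW g).mpr hgp))
  -- some `g` is nonzero in the local ring, as `U` is dense
  obtain ⟨g₀, hg₀S, hg₀⟩ : ∃ g ∈ S, a g ≠ 0 := by
    by_contra hc
    push Not at hc
    choose t ht using fun g : S => (IsLocalization.map_eq_zero_iff p.primeCompl R g.1).mp (hc g.1 g.2)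
    have hT : z ∈ X.basicOpen (∏ g, (t g).1) := (mem_basicOpen_iff hW hzW _).mpr fun H => by
      obtain ⟨g, -, hg⟩ := (Ideal.IsPrime.prod_mem_iff (hp := (inferInstance : p.IsPrime))).mp H
      exact (t g).2 hg
    obtain ⟨y, hyU, hyT⟩ := hdense.inter_open_nonempty _ (X.basicOpen (∏ g, (t g).1)).2 ⟨z, hT⟩
    have hyW : y ∈ W₀ := X.basicOpen_le _ hyU
    obtain ⟨g, hgS, hyg⟩ := hcover y hyW hyT
    have hyt := (mem_basicOpen_iff hW hyW _).mp hyU
    refine (mem_basicOpen_iff hW hyW _).mp hyg ?_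
    refine (Ideal.IsPrime.mem_or_mem inferInstance
      (show (t ⟨g, hgS⟩).1 * g ∈ (hW.primeIdealOf ⟨y, hyW⟩).asIdeal from (ht ⟨g, hgS⟩).symm ▸ zero_mem _)).resolve_left fun H => ?_
    exact hyt (Ideal.mem_of_dvd _ (Finset.dvd_prod_of_mem _ (Finset.mem_univ _)) H)
  by_cases hcase : ∃ π : R, Prime π ∧ ∀ g ∈ S, π ∣ a g
  · -- all equations share a prime, which then generates the maximal ideal
    obtain ⟨π, hπ, hπg⟩ := hcase
    haveI : (Ideal.span {π}).IsPrime := (Ideal.span_singleton_prime hπ.ne_zero).mpr hπ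
    let q : PrimeSpectrum Γ(X, W₀) := ⟨(Ideal.span {π}).comap a, inferInstance⟩
    have hqz : pt hW q = z := by
      refine hmax _ ((specializes_iff hW hzW (pt_mem hW q)).mpr ?_) fun hU => ?_
      · rw [primeIdealOf_pt]
        refine (Ideal.comap_mono (IsLocalRing.le_maximalIdeal (Ideal.IsPrime.ne_top ‹_›))).trans ?_
        exact (IsLocalization.AtPrime.under_maximalIdeal R p).le
      · obtain ⟨g, hgS, hyg⟩ := hcover _ (pt_mem hW q) hU
        rw [mem_basicOpen_iff hW (pt_mem hW q), primeIdealOf_pt] at hyg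
        exact hyg (Ideal.mem_span_singleton.mpr (hπg g hgS))
    have hq : p = q.asIdeal := by
      have := primeIdealOf_pt hW q
      simp only [hqz] at this
      exact congrArg PrimeSpectrum.asIdeal this
    have hspanπ : IsLocalRing.maximalIdeal R = Ideal.span {π} := by
      refine le_antisymm ?_ (IsLocalRing.le_maximalIdeal (Ideal.IsPrime.ne_top ‹_›))
      rw [← IsLocalization.map_under p.primeCompl R (IsLocalRing.maximalIdeal R)]
      refine Ideal.map_le_iff_le_comap.mpr ?_
      exact (IsLocalization.AtPrime.under_maximalIdeal R p).le.trans hq.le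
    refine le_antisymm ?_ ?_
    · rw [← IsLocalRing.maximalIdeal_height_eq_ringKrullDim, hspanπ]
      exact_mod_cast Ideal.height_span_singleton_le_one hπ.not_isUnit
    · rw [← IsLocalRing.maximalIdeal_height_eq_ringKrullDim, hspanπ]
      exact_mod_cast Ideal.one_le_height_span_singleton_of_mem_nonZeroDivisors
        (mem_nonZeroDivisors_iff_ne_zero.mpr hπ.ne_zero)
  · -- otherwise sections on the affine punctured neighbourhood extend, a contradiction
    exfalso
    push Not at hcase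
    let K := FractionRing R
    let B := Γ(X, W₀ ⊓ U)
    let aK : Γ(X, W₀) →+* K := (algebraMap R K).comp a
    let resB : Γ(X, W₀) →+* B := (X.presheaf.map (homOfLE inf_le_left).op).hom
    have hDle : ∀ g ∈ S, X.basicOpen g ≤ W₀ ⊓ U := fun g hg => le_inf (X.basicOpen_le g) (hSU hg)
    let rD : ∀ g : S, B →+* Γ(X, X.basicOpen g.1) := fun g => (X.presheaf.map (homOfLE (hDle g.1 g.2)).op).hom
    let res : ∀ g : Γ(X, W₀), Γ(X, W₀) →+* Γ(X, X.basicOpen g) := fun g =>
      (X.presheaf.map (homOfLE (X.basicOpen_le g)).op).hom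
    have hinj : ∀ r : R, r ≠ 0 → IsUnit (algebraMap R K r) := fun r hr =>
      ((map_ne_zero_iff _ (IsFractionRing.injective R K)).mpr hr).isUnit
    -- the map `B → K` through one nonvanishing equation
    have hext : ∀ g : S, a g.1 ≠ 0 → ∃ ψ : Γ(X, X.basicOpen g.1) →+* K, ψ.comp (res g.1) = aK := fun g hg => by
      letI := (res g.1).toAlgebra
      haveI : IsLocalization.Away g.1 Γ(X, X.basicOpen g.1) := hW.isLocalization_basicOpen g.1
      exact ⟨IsLocalization.Away.lift g.1 (hinj _ hg), IsLocalization.Away.lift_comp _ _⟩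
    obtain ⟨ψ₀, hψ₀⟩ := hext ⟨g₀, hg₀S⟩ hg₀
    let ψ : B →+* K := ψ₀.comp (rD ⟨g₀, hg₀S⟩)
    have hψres : ∀ x, ψ (resB x) = aK x := fun x => by
      rw [← hψ₀]
      change ψ₀ (rD ⟨g₀, hg₀S⟩ (resB x)) = ψ₀ (res g₀ x)
      refine congrArg ψ₀ ?_
      change (X.presheaf.map _ ≫ X.presheaf.map _) x = _
      rw [← Functor.map_comp]
      rfl
    have hden : ∀ g : S, ∀ b : B, ∃ (n : ℕ) (c : R), algebraMap R K c = ψ b * algebraMap R K (a g.1) ^ n := by
      intro g b
      letI := (res g.1).toAlgebra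
      haveI : IsLocalization.Away g.1 Γ(X, X.basicOpen g.1) := hW.isLocalization_basicOpen g.1
      obtain ⟨n, c, hc⟩ := IsLocalization.Away.surj g.1 (rD g b)
      -- multiply by a power of `g` to get a section agreeing on `D(g)`, and compare on `D(g₀ g)`
      by_cases hg : a g.1 = 0
      · refine ⟨1, 0, ?_⟩
        rw [hg, map_zero, pow_one, mul_zero]
      have hgg : a (g₀ * g.1) ≠ 0 := by rw [map_mul]; exact mul_ne_zero hg₀ hg
      have hle₀ : X.basicOpen (g₀ * g.1) ≤ X.basicOpen g₀ := (X.basicOpen_mul g₀ g.1).trans_le inf_le_left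
      have hleg : X.basicOpen (g₀ * g.1) ≤ X.basicOpen g.1 := (X.basicOpen_mul g₀ g.1).trans_le inf_le_right
      letI := (res (g₀ * g.1)).toAlgebra
      haveI : IsLocalization.Away (g₀ * g.1) Γ(X, X.basicOpen (g₀ * g.1)) := hW.isLocalization_basicOpen _
      let ψ₂ : Γ(X, X.basicOpen (g₀ * g.1)) →+* K := IsLocalization.Away.lift (g₀ * g.1) (g := aK) (hinj _ hgg)
      have hψ₂ : ψ₂.comp (res (g₀ * g.1)) = aK := IsLocalization.Away.lift_comp _ _
      let r₀ : Γ(X, X.basicOpen g₀) →+* Γ(X, X.basicOpen (g₀ * g.1)) := (X.presheaf.map (homOfLE hle₀).op).hom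
      let r₁ : Γ(X, X.basicOpen g.1) →+* Γ(X, X.basicOpen (g₀ * g.1)) := (X.presheaf.map (homOfLE hleg).op).hom
      have h₀ : ψ₂.comp r₀ = ψ₀ := by
        letI := (res g₀).toAlgebra
        haveI : IsLocalization.Away g₀ Γ(X, X.basicOpen g₀) := hW.isLocalization_basicOpen g₀
        refine IsLocalization.ringHom_ext (Submonoid.powers g₀) ?_
        change (ψ₂.comp r₀).comp (res g₀) = ψ₀.comp (res g₀)
        rw [hψ₀, RingHom.comp_assoc, show r₀.comp (res g₀) = res (g₀ * g.1) from ?_, hψ₂]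
        ext x
        change (X.presheaf.map _ ≫ X.presheaf.map _) x = _
        rw [← Functor.map_comp]
        rfl
      refine ⟨n, a c, ?_⟩
      have e1 : ψ b = ψ₂ (r₁ (rD g b)) := by
        change ψ₀ (rD ⟨g₀, hg₀S⟩ b) = _
        rw [← h₀]
        change ψ₂ ((X.presheaf.map _ ≫ X.presheaf.map _) b) = ψ₂ ((X.presheaf.map _ ≫ X.presheaf.map _) b)
        rw [← Functor.map_comp, ← Functor.map_comp]
        rfl
      have e2 : ∀ x, ψ₂ (r₁ (res g.1 x)) = aK x := fun x => by
        rw [← hψ₂]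
        change ψ₂ ((X.presheaf.map _ ≫ X.presheaf.map _) x) = ψ₂ (X.presheaf.map _ x)
        rw [← Functor.map_comp]
        rfl
      have hc' := congrArg (fun x => ψ₂ (r₁ x)) hc
      simp only [map_mul, map_pow, RingHom.algebraMap_toAlgebra] at hc'
      rw [e2, e2, ← e1] at hc'
      exact hc'.symm
    have hR : ∀ b : B, ∃ r : R, algebraMap R K r = ψ b := by
      intro b
      obtain ⟨x, y, hred, hxy⟩ := IsFractionRing.exists_reduced_fraction (A := R) (ψ b)
      have hu : IsUnit (y : R) := by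
        rw [← not_not (a := IsUnit (y : R))]
        intro hnu
        obtain ⟨π, hπ, hπy⟩ := WfDvdMonoid.exists_irreducible_factor hnu (nonZeroDivisors.ne_zero y.2)
        obtain ⟨g, hgS, hπg⟩ := hcase π hπ.prime
        obtain ⟨n, c, hc⟩ := hden ⟨g, hgS⟩ b
        have h1 : (y : R) * c = x * a g ^ n := IsFractionRing.injective R K (by
          rw [map_mul, hc, ← hxy, map_mul, map_pow, ← mul_assoc, mul_comm (algebraMap R K y),
            IsLocalization.mk'_spec])
        rcases hπ.prime.dvd_or_dvd (hπy.trans (Dvd.intro c h1)) with h | h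
        · exact hπ.not_isUnit (hred h hπy)
        · exact hπg (hπ.prime.dvd_of_dvd_pow h)
      refine ⟨x * ↑hu.unit⁻¹, ?_⟩
      rw [← hxy, IsLocalization.eq_mk'_iff_mul_eq, ← map_mul, mul_assoc, IsUnit.val_inv_mul, mul_one]
    -- `1` is a combination of the equations in `B`
    have hone : (1 : B) ∈ Ideal.span (resB '' (S : Set Γ(X, W₀))) := by
      rw [show Ideal.span (resB '' (S : Set Γ(X, W₀))) = ⊤ from ?_]
      · trivial
      rw [← hUW.self_le_iSup_basicOpen_iff]
      intro y hy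
      obtain ⟨g, hgS, hyg⟩ := hcover y hy.1 hy.2
      refine Opens.mem_iSup.mpr ⟨⟨resB g, g, hgS, rfl⟩, ?_⟩
      change y ∈ X.basicOpen (X.presheaf.map (homOfLE inf_le_left).op g)
      rw [Scheme.basicOpen_res]
      exact ⟨hy, hyg⟩
    suffices ∀ b ∈ Ideal.span (resB '' (S : Set Γ(X, W₀))), ∃ r ∈ IsLocalRing.maximalIdeal R, algebraMap R K r = ψ b by
      obtain ⟨r, hr, hr1⟩ := this 1 hone
      rw [map_one, ← map_one (algebraMap R K)] at hr1
      rw [IsFractionRing.injective R K hr1] at hr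
      exact (IsLocalRing.maximalIdeal R).ne_top_iff_one.mp (IsLocalRing.maximalIdeal.isMaximal R).ne_top hr
    intro b hb
    induction hb using Submodule.span_induction with
    | mem b hb =>
      obtain ⟨g, hg, rfl⟩ := hb
      exact ⟨a g, (IsLocalization.AtPrime.to_map_mem_maximal_iff R p g).mpr (hgp g hg), (hψres g).symm⟩
    | zero => exact ⟨0, zero_mem _, by rw [map_zero, map_zero]⟩
    | add x y _ _ hx hy =>
      obtain ⟨r, hr, hx⟩ := hx; obtain ⟨s, hs, hy⟩ := hy
      exact ⟨r + s, add_mem hr hs, by rw [map_add, map_add, hx, hy]⟩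
    | smul r x _ hx =>
      obtain ⟨s, hs, hx⟩ := hx; obtain ⟨t, ht⟩ := hR r
      exact ⟨t * s, Ideal.mul_mem_left _ _ hs, by rw [map_mul, smul_eq_mul, map_mul, hx, ht]⟩

end Groth.Agent.InvExtend
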