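import Groth.Agent.InvExtend.Algebra
import Mathlib.AlgebraicGeometry.Noetherian

/-! An affine open with domain of sections: generic point, local rings inside the function field. -/

set_option linter.style.haveILetI false

namespace Groth.Agent.InvExtend

open AlgebraicGeometry CategoryTheory TopologicalSpace

universe u

variable {X : Scheme.{u}} {W₀ : X.Opens} (hW : IsAffineOpen W₀)

/-- The point of an affine open with given prime. -/
noncomputable abbrev pt (q : PrimeSpectrum Γ(X, W₀)) : X := hW.fromSpec q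

lemma pt_mem (q : PrimeSpectrum Γ(X, W₀)) : pt hW q ∈ W₀ := by
  change pt hW q ∈ (W₀ : Set X)
  rw [← hW.range_fromSpec]
  exact Set.mem_range_self q

lemma primeIdealOf_pt (q : PrimeSpectrum Γ(X, W₀)) : hW.primeIdealOf ⟨pt hW q, pt_mem hW q⟩ = q :=
  hW.fromSpec.isOpenEmbedding.injective (hW.fromSpec_primeIdealOf _)

lemma specializes_iff {y z : X} (hy : y ∈ W₀) (hz : z ∈ W₀) :
    z ⤳ y ↔ (hW.primeIdealOf ⟨z, hz⟩).asIdeal ≤ (hW.primeIdealOf ⟨y, hy⟩).asIdeal := by
  refine Iff.trans ?_ (PrimeSpectrum.le_iff_specializes (hW.primeIdealOf ⟨z, hz⟩) (hW.primeIdealOf ⟨y, hy⟩)).symm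
  have e : hW.fromSpec (hW.primeIdealOf ⟨z, hz⟩) ⤳ hW.fromSpec (hW.primeIdealOf ⟨y, hy⟩) ↔
      hW.primeIdealOf ⟨z, hz⟩ ⤳ hW.primeIdealOf ⟨y, hy⟩ :=
    hW.fromSpec.isOpenEmbedding.isEmbedding.specializes_iff
  rw [hW.fromSpec_primeIdealOf, hW.fromSpec_primeIdealOf] at e
  exact e

lemma mem_basicOpen_iff {y : X} (hy : y ∈ W₀) (f : Γ(X, W₀)) :
    y ∈ X.basicOpen f ↔ f ∉ (hW.primeIdealOf ⟨y, hy⟩).asIdeal := by
  letI := TopCat.Presheaf.algebra_section_stalk X.presheaf (⟨y, hy⟩ : W₀)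
  haveI := hW.isLocalization_stalk ⟨y, hy⟩
  rw [Scheme.mem_basicOpen X f y hy]
  exact IsLocalization.AtPrime.isUnit_to_map_iff (X.presheaf.stalk y) _ f

variable [IsDomain Γ(X, W₀)]

/-- The generic point of the affine open. -/
noncomputable abbrev gen : X := pt hW ⟨⊥, Ideal.isPrime_bot⟩

lemma gen_mem : gen hW ∈ W₀ := pt_mem hW _

lemma primeIdealOf_gen : (hW.primeIdealOf ⟨gen hW, gen_mem hW⟩).asIdeal = ⊥ := by
  rw [primeIdealOf_pt]

lemma gen_specializes {y : X} (hy : y ∈ W₀) : gen hW ⤳ y :=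
  (specializes_iff hW hy (gen_mem hW)).mpr ((primeIdealOf_gen hW).trans_le bot_le)

lemma gen_mem_of_mem {V : X.Opens} {y : X} (hy : y ∈ W₀) (hyV : y ∈ V) : gen hW ∈ V :=
  (gen_specializes hW hy).mem_open V.2 hyV

/-- The map from sections to the function field. -/
@[reducible] noncomputable def genAlgebra : Algebra Γ(X, W₀) (X.presheaf.stalk (gen hW)) :=
  (X.presheaf.germ W₀ (gen hW) (gen_mem hW)).hom.toAlgebra

lemma isFractionRing_gen :
    @IsFractionRing Γ(X, W₀) _ (X.presheaf.stalk (gen hW)) _ (genAlgebra hW) := by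
  letI := genAlgebra hW
  haveI h : IsLocalization (hW.primeIdealOf ⟨gen hW, gen_mem hW⟩).asIdeal.primeCompl
      (X.presheaf.stalk (gen hW)) := hW.isLocalization_stalk ⟨gen hW, gen_mem hW⟩
  have : (hW.primeIdealOf ⟨gen hW, gen_mem hW⟩).asIdeal.primeCompl = nonZeroDivisors Γ(X, W₀) := by
    ext a
    change a ∉ (hW.primeIdealOf ⟨gen hW, gen_mem hW⟩).asIdeal ↔ _
    rw [primeIdealOf_gen, Ideal.mem_bot, mem_nonZeroDivisors_iff_ne_zero]
  rwa [this] at h

/-- The stalk of the generic point as a field. -/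
@[reducible] noncomputable def genField : Field (X.presheaf.stalk (gen hW)) :=
  letI := genAlgebra hW
  haveI := isFractionRing_gen hW
  IsFractionRing.toField Γ(X, W₀)

lemma germ_gen {V : X.Opens} (hVW : V ≤ W₀) (hg : gen hW ∈ V) (a : Γ(X, W₀)) :
    X.presheaf.germ V (gen hW) hg (X.presheaf.map (homOfLE hVW).op a) =
      X.presheaf.germ W₀ (gen hW) (gen_mem hW) a :=
  TopCat.Presheaf.germ_res_apply _ _ _ _ _

/-- The local ring at `y` inside the function field. -/
lemma mem_range_specializes_iff {y : X} (hy : y ∈ W₀) (h : gen hW ⤳ y) (c : X.presheaf.stalk (gen hW)) :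
    c ∈ Set.range (X.presheaf.stalkSpecializes h) ↔
      letI := genAlgebra hW; letI := genField hW; Reg (hW.primeIdealOf ⟨y, hy⟩).asIdeal c := by
  letI := genAlgebra hW
  letI := TopCat.Presheaf.algebra_section_stalk X.presheaf (⟨y, hy⟩ : W₀)
  haveI := hW.isLocalization_stalk ⟨y, hy⟩
  have hcomp : ∀ a : Γ(X, W₀), X.presheaf.stalkSpecializes h (algebraMap Γ(X, W₀) (X.presheaf.stalk y) a) =
      algebraMap Γ(X, W₀) (X.presheaf.stalk (gen hW)) a := fun a =>
    TopCat.Presheaf.germ_stalkSpecializes_apply _ hy h a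
  constructor
  · rintro ⟨s, rfl⟩
    obtain ⟨a, b, rfl⟩ := IsLocalization.exists_mk'_eq (hW.primeIdealOf ⟨y, hy⟩).asIdeal.primeCompl s
    refine ⟨a, b, b.2, ?_⟩
    rw [← hcomp, ← hcomp]
    exact (map_mul (X.presheaf.stalkSpecializes h).hom _ _).symm.trans
      (congrArg _ (IsLocalization.mk'_spec _ a b))
  · rintro ⟨a, b, hb, he⟩
    refine ⟨IsLocalization.mk' (X.presheaf.stalk y) a (⟨b, hb⟩ : (hW.primeIdealOf ⟨y, hy⟩).asIdeal.primeCompl), ?_⟩
    refine ((IsLocalization.map_units (X.presheaf.stalk y)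
      (⟨b, hb⟩ : (hW.primeIdealOf ⟨y, hy⟩).asIdeal.primeCompl)).map
        (X.presheaf.stalkSpecializes h).hom).mul_left_inj.mp ?_
    refine (map_mul (X.presheaf.stalkSpecializes h).hom _ _).symm.trans ?_
    refine (congrArg _ (IsLocalization.mk'_spec _ a _)).trans ?_
    refine (hcomp a).trans ?_
    refine he.symm.trans ?_
    exact congrArg (c * ·) (hcomp b).symm

lemma specializes_injective {y : X} (hy : y ∈ W₀) (h : gen hW ⤳ y) :
    Function.Injective (X.presheaf.stalkSpecializes h) := by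
  letI := genAlgebra hW
  haveI := isFractionRing_gen hW
  letI := TopCat.Presheaf.algebra_section_stalk X.presheaf (⟨y, hy⟩ : W₀)
  haveI := hW.isLocalization_stalk ⟨y, hy⟩
  refine (injective_iff_map_eq_zero (X.presheaf.stalkSpecializes h).hom).mpr fun s hs => ?_
  obtain ⟨a, b, rfl⟩ := IsLocalization.exists_mk'_eq (hW.primeIdealOf ⟨y, hy⟩).asIdeal.primeCompl s
  have h0 : X.presheaf.germ W₀ (gen hW) (gen_mem hW) a = 0 := by
    rw [← TopCat.Presheaf.germ_stalkSpecializes_apply X.presheaf hy h a]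
    have := congrArg (X.presheaf.stalkSpecializes h).hom (IsLocalization.mk'_spec (X.presheaf.stalk y) a b)
    rw [map_mul, hs, zero_mul] at this
    exact this.symm
  have : a = 0 := IsFractionRing.injective Γ(X, W₀) (X.presheaf.stalk (gen hW)) (h0.trans (map_zero _).symm)
  rw [this, IsLocalization.mk'_zero]

/-- A section inside the affine open vanishes if its generic germ does. -/
lemma eq_zero_of_germ {W : X.Opens} (hWW : W ≤ W₀) (r : Γ(X, W))
    (h : ∀ hg : gen hW ∈ W, X.presheaf.germ W (gen hW) hg r = 0) : r = 0 := by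
  refine TopCat.Presheaf.section_ext X.sheaf W r 0 fun y hy => ?_
  apply specializes_injective hW (hWW hy) (gen_specializes hW (hWW hy))
  change X.presheaf.stalkSpecializes _ (X.presheaf.germ W y hy r) =
    X.presheaf.stalkSpecializes _ (X.presheaf.germ W y hy 0)
  rw [TopCat.Presheaf.germ_stalkSpecializes_apply, h, map_zero, map_zero]

/-- An element of the function field regular at every point of `W` comes from a section. -/
lemma exists_section {W : X.Opens} (hWW : W ≤ W₀) (c : X.presheaf.stalk (gen hW))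
    (h : ∀ (y : X) (hy : y ∈ W), c ∈ Set.range (X.presheaf.stalkSpecializes (gen_specializes hW (hWW hy)))) :
    ∃ r : Γ(X, W), ∀ hg : gen hW ∈ W, X.presheaf.germ W (gen hW) hg r = c := by
  have hloc : ∀ y : W, ∃ (V : X.Opens) (_ : y.1 ∈ V) (_ : V ≤ W) (t : Γ(X, V)),
      ∀ hg : gen hW ∈ V, X.presheaf.germ V (gen hW) hg t = c := by
    intro y
    obtain ⟨s, hs⟩ := h y.1 y.2
    obtain ⟨V, hV, t, rfl⟩ := X.presheaf.exists_germ_eq s
    refine ⟨V ⊓ W, ⟨hV, y.2⟩, inf_le_right, X.presheaf.map (homOfLE inf_le_left).op t, fun hg => ?_⟩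
    refine (TopCat.Presheaf.germ_res_apply _ _ _ _ _).trans ?_
    rw [← hs]
    exact (TopCat.Presheaf.germ_stalkSpecializes_apply _ hV _ t).symm
  choose V hyV hVW t ht using hloc
  obtain ⟨r, hr, -⟩ := X.sheaf.existsUnique_gluing' V W (fun y => homOfLE (hVW y))
    (fun z hz => Opens.mem_iSup.mpr ⟨⟨z, hz⟩, hyV ⟨z, hz⟩⟩) t (fun i j => by
      refine sub_eq_zero.mp (eq_zero_of_germ hW ((inf_le_left.trans (hVW i)).trans hWW) _ fun hg => ?_)
      refine (map_sub (X.presheaf.germ (V i ⊓ V j) (gen hW) hg).hom _ _).trans (sub_eq_zero.mpr ?_)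
      refine (TopCat.Presheaf.germ_res_apply X.presheaf _ _ _ _).trans ?_
      refine Eq.trans ?_ (TopCat.Presheaf.germ_res_apply X.presheaf _ _ _ _).symm
      exact (ht i hg.1).trans (ht j hg.2).symm)
  refine ⟨r, fun hg => ?_⟩
  rw [← ht ⟨gen hW, hg⟩ (hyV ⟨gen hW, hg⟩), ← hr ⟨gen hW, hg⟩]
  exact (TopCat.Presheaf.germ_res_apply X.presheaf (homOfLE (hVW ⟨gen hW, hg⟩)) _ _ r).symm

end Groth.Agent.InvExtend
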