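import Groth.Agent.InvExtend.Algebra
import Groth.Agent.InvExtend.Integral
import Groth.Prelude.Def_BlowUp2
import Mathlib.AlgebraicGeometry.IdealSheaf.Subscheme
import Mathlib.RingTheory.Ideal.AssociatedPrime.Localization
import Mathlib.RingTheory.Ideal.KrullsHeightTheorem

/-! Criterion for an ideal sheaf along factorial points to be effective Cartier:
all associated primes of the quotient have height one. -/

set_option linter.style.haveILetI false

namespace Groth.Agent.InvExtend

open AlgebraicGeometry CategoryTheory TopologicalSpace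

universe u

section Algebra

variable {R : Type u} [CommRing R] [IsDomain R] [IsNoetherianRing R]

/-- An ideal whose quotient has only principal associated primes is principal. -/
lemma exists_span_singleton_of_associatedPrimes (I : Ideal R)
    (h : ∀ P : Ideal R, IsAssociatedPrime P (R ⧸ I) → ∃ π : R, π ≠ 0 ∧ P = Ideal.span {π}) :
    ∃ d : R, d ≠ 0 ∧ I = Ideal.span {d} := by
  obtain ⟨J, ⟨d, hd, hIJ⟩, hmax⟩ := set_has_maximal_iff_noetherian.mpr (inferInstance : IsNoetherian R R)
    {J : Ideal R | ∃ d : R, d ≠ 0 ∧ I = Ideal.span {d} * J}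
    ⟨I, 1, one_ne_zero, by rw [Ideal.span_singleton_one, Ideal.top_mul]⟩
  by_cases hJ : J = ⊤
  · exact ⟨d, hd, by rw [hIJ, hJ, Ideal.mul_top]⟩
  exfalso
  haveI : Nontrivial (R ⧸ J) := Ideal.Quotient.nontrivial_iff.mpr hJ
  obtain ⟨P, hP⟩ := associatedPrimes.nonempty R (R ⧸ J)
  replace hP : IsAssociatedPrime P (R ⧸ J) := hP
  let μ : R →ₗ[R] R ⧸ I := (Submodule.mkQ I).comp (LinearMap.lsmul R R d)
  have hker : LinearMap.ker μ = J := by
    ext r
    change Submodule.Quotient.mk (d * r) = (0 : R ⧸ I) ↔ r ∈ J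
    rw [Submodule.Quotient.mk_eq_zero, hIJ, Ideal.mem_span_singleton_mul]
    exact ⟨fun ⟨z, hz, e⟩ => mul_left_cancel₀ hd e ▸ hz, fun hr => ⟨r, hr, rfl⟩⟩
  have hP' : IsAssociatedPrime P (R ⧸ I) :=
    hP.map_of_injective (f := Submodule.liftQ J μ hker.ge)
      (LinearMap.ker_eq_bot.mp (Submodule.ker_liftQ_eq_bot _ _ _ hker.le))
  obtain ⟨π, hπ0, rfl⟩ := h P hP'
  have hJP : J ≤ Ideal.span {π} := (Ideal.annihilator_quotient.ge.trans Submodule.annihilator_top.ge).trans hP.annihilator_le
  let J' : Ideal R := Submodule.comap (LinearMap.lsmul R R π) J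
  have hJJ' : J = Ideal.span {π} * J' := by
    refine le_antisymm (fun a ha => ?_) (Ideal.span_singleton_mul_le_iff.mpr fun b hb => hb)
    obtain ⟨b, rfl⟩ := Ideal.mem_span_singleton.mp (hJP ha)
    exact Ideal.mem_span_singleton_mul.mpr ⟨b, ha, rfl⟩
  have hle : J ≤ J' := fun a ha => Ideal.mul_mem_left J π ha
  have hmem : J' ∈ {J : Ideal R | ∃ d : R, d ≠ 0 ∧ I = Ideal.span {d} * J} :=
    ⟨d * π, mul_ne_zero hd hπ0, by
      rw [hIJ, hJJ', ← mul_assoc, Ideal.span_singleton_mul_span_singleton]⟩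
  have heq : J' = J := (hle.eq_of_not_lt (hmax J' hmem)).symm
  rw [heq] at hJJ'
  obtain ⟨r, hr1, hr0⟩ := Submodule.exists_sub_one_mem_and_smul_eq_zero_of_fg_of_le_smul (Ideal.span {π}) J
    (IsNoetherian.noetherian J) hJJ'.le
  have hPtop : Ideal.span {π} ≠ ⊤ := hP.isPrime.ne_top
  have hJ0 : J = ⊥ := eq_bot_iff.mpr fun a ha => by
    rcases mul_eq_zero.mp (hr0 a ha) with h0 | h0
    · refine absurd ((Ideal.eq_top_iff_one _).mpr ?_) hPtop
      rw [h0, zero_sub, neg_mem_iff] at hr1
      exact hr1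
    · exact h0
  obtain ⟨hp, x, hx⟩ := hP
  have hπ : π ∈ Ideal.span {π} := Ideal.subset_span rfl
  obtain ⟨n, hn⟩ := hx.le hπ
  rw [Submodule.mem_colon_singleton, Submodule.mem_bot] at hn
  obtain ⟨a, rfl⟩ := Ideal.Quotient.mk_surjective x
  change Ideal.Quotient.mk J (π ^ n * a) = 0 at hn
  rw [Ideal.Quotient.eq_zero_iff_mem, hJ0, Submodule.mem_bot, mul_eq_zero] at hn
  rcases hn with hn | hn
  · exact hπ0 (pow_eq_zero_iff'.mp hn).1
  · refine hp.ne_top ((Ideal.eq_top_iff_one _).mpr (hx.ge ⟨1, ?_⟩))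
    rw [Submodule.mem_colon_singleton, Submodule.mem_bot, hn, map_zero, smul_zero]

/-- A height one prime of a UFD is principal. -/
lemma exists_eq_span_of_height_eq_one [UniqueFactorizationMonoid R] (P : Ideal R) [P.IsPrime]
    (hP : P.height = 1) : ∃ π : R, π ≠ 0 ∧ P = Ideal.span {π} := by
  have hne : P ≠ ⊥ := fun h => by
    subst h
    rw [Ideal.height_bot] at hP
    exact zero_ne_one hP
  obtain ⟨e, he, he0⟩ := Submodule.exists_mem_ne_zero_of_ne_bot hne
  obtain ⟨π, hπ, -, hπP⟩ := exists_prime_dvd_mem he0 he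
  refine ⟨π, hπ.ne_zero, (eq_of_le_of_not_lt ((Ideal.span_singleton_le_iff_mem _).mpr hπP) fun hlt => ?_).symm⟩
  haveI : (Ideal.span {π}).IsPrime := (Ideal.span_singleton_prime hπ.ne_zero).mpr hπ
  have h1 : 1 ≤ (Ideal.span {π}).height :=
    Ideal.one_le_height_span_singleton_of_mem_nonZeroDivisors (mem_nonZeroDivisors_iff_ne_zero.mpr hπ.ne_zero)
  exact (h1.trans_lt ((Ideal.height_strict_mono_of_isPrime hlt).trans_eq hP)).false

end Algebra

section Spread

variable {A : Type u} [CommRing A] [IsNoetherianRing A] (p : Ideal A) [p.IsPrime]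
  (R : Type u) [CommRing R] [Algebra A R] [IsLocalization.AtPrime R p]

/-- A principal generator at a prime spreads to a basic open. -/
lemma exists_span_singleton_near (I : Ideal A) (d : R) (hd : d ∈ nonZeroDivisors R)
    (hI : I.map (algebraMap A R) = Ideal.span {d}) :
    ∃ f : A, f ∉ p ∧ ∃ a ∈ I, ∀ (S : Type u) [CommRing S] [Algebra A S] [IsLocalization.Away f S],
      algebraMap A S a ∈ nonZeroDivisors S ∧ I.map (algebraMap A S) = Ideal.span {algebraMap A S a} := by
  classical
  obtain ⟨⟨⟨a, ha⟩, s⟩, hs⟩ := (IsLocalization.mem_map_algebraMap_iff p.primeCompl R).mp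
    (hI ▸ Ideal.subset_span rfl : d ∈ I.map (algebraMap A R))
  have hsu : IsUnit (algebraMap A R s) := IsLocalization.map_units R s
  have hgen : ∀ b ∈ I, ∃ t : A, t ∉ p ∧ ∃ w, t * b = w * a := by
    intro b hb
    have h1 : algebraMap A R b ∈ Ideal.span {algebraMap A R a} := by
      rw [← hs, Ideal.span_singleton_mul_right_unit hsu, ← hI]
      exact Ideal.mem_map_of_mem _ hb
    obtain ⟨c, hc⟩ := Ideal.mem_span_singleton'.mp h1
    obtain ⟨z, t, rfl⟩ := IsLocalization.exists_mk'_eq p.primeCompl c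
    have h2 : algebraMap A R (z * a) = algebraMap A R (t * b) := by
      rw [map_mul, map_mul, ← IsLocalization.mk'_spec R z t, mul_comm _ (algebraMap A R t), mul_assoc, hc]
    obtain ⟨m, hm⟩ := (IsLocalization.eq_iff_exists p.primeCompl R).mp h2
    exact ⟨m * t, (m * t).2, m * z, by rw [mul_assoc, mul_assoc, hm]⟩
  let N : Ideal A := Submodule.comap (LinearMap.lsmul A A a) ⊥
  have hann : ∀ b ∈ N, ∃ t : A, t ∉ p ∧ t * b = 0 := by
    intro b (hb : a * b = 0)
    have had : algebraMap A R a ∈ nonZeroDivisors R := hs ▸ mul_mem hd hsu.mem_nonZeroDivisors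
    have h0 : algebraMap A R b = 0 :=
      mem_nonZeroDivisors_iff_right.mp had _ (by rw [mul_comm, ← map_mul, hb, map_zero])
    obtain ⟨m, hm⟩ := (IsLocalization.map_eq_zero_iff p.primeCompl R b).mp h0
    exact ⟨m, m.2, hm⟩
  obtain ⟨T₁, hT₁⟩ := IsNoetherian.noetherian I
  obtain ⟨T₂, hT₂⟩ := IsNoetherian.noetherian N
  choose t₁ ht₁ w₁ hw₁ using fun b : T₁ => hgen b.1 (hT₁ ▸ Submodule.subset_span b.2)
  choose t₂ ht₂ hw₂ using fun b : T₂ => hann b.1 (hT₂ ▸ Submodule.subset_span b.2)
  let f := (∏ b, t₁ b) * ∏ b, t₂ b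
  refine ⟨f, fun H => ?_, a, ha, fun S _ _ _ => ⟨?_, ?_⟩⟩
  · rcases Ideal.IsPrime.mem_or_mem ‹_› H with H | H
    · obtain ⟨b, -, hb⟩ := (Ideal.IsPrime.prod_mem_iff (hp := ‹p.IsPrime›)).mp H
      exact ht₁ b hb
    · obtain ⟨b, -, hb⟩ := (Ideal.IsPrime.prod_mem_iff (hp := ‹p.IsPrime›)).mp H
      exact ht₂ b hb
  · have hN : ∀ b ∈ N, f * b = 0 := by
      intro b hb
      rw [← hT₂] at hb
      induction hb using Submodule.span_induction with
      | mem b hb =>
        obtain ⟨c, hc⟩ := Finset.dvd_prod_of_mem t₂ (Finset.mem_univ ⟨b, hb⟩)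
        change (∏ b, t₁ b) * (∏ b, t₂ b) * b = 0
        rw [hc]
        linear_combination (∏ b, t₁ b) * c * hw₂ ⟨b, hb⟩
      | zero => exact mul_zero f
      | add x y _ _ hx hy => rw [mul_add, hx, hy, add_zero]
      | smul r x _ hx => rw [smul_eq_mul, mul_left_comm, hx, mul_zero]
    refine mem_nonZeroDivisors_iff_right.mpr fun z hz => ?_
    obtain ⟨n, b, hb⟩ := IsLocalization.Away.surj f z
    have h1 : algebraMap A S (b * a) = 0 := by rw [map_mul, ← hb, mul_right_comm, hz, zero_mul]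
    obtain ⟨⟨_, k, rfl⟩, hm⟩ := (IsLocalization.map_eq_zero_iff (Submonoid.powers f) S _).mp h1
    have h2 : algebraMap A S (f * (f ^ k * b)) = 0 := by
      rw [hN (f ^ k * b) (show a * (f ^ k * b) = 0 by linear_combination hm), map_zero]
    simp only [map_mul, map_pow, ← hb] at h2
    have hu := IsLocalization.Away.algebraMap_isUnit (S := S) f
    exact (hu.pow n).mul_left_eq_zero.mp ((hu.pow k).mul_right_eq_zero.mp (hu.mul_right_eq_zero.mp h2))
  · refine le_antisymm ?_ ((Ideal.span_singleton_le_iff_mem _).mpr (Ideal.mem_map_of_mem _ ha))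
    rw [← hT₁, Ideal.span, Ideal.map_span, Ideal.span_le]
    rintro _ ⟨b, hb, rfl⟩
    obtain ⟨c, hc⟩ := (Finset.dvd_prod_of_mem t₁ (Finset.mem_univ ⟨b, hb⟩)).trans (Dvd.intro (∏ b, t₂ b) rfl : _ ∣ f)
    refine Ideal.mem_span_singleton.mpr ?_
    refine (IsLocalization.Away.algebraMap_isUnit (S := S) f).dvd_mul_left.mp ⟨algebraMap A S (c * w₁ ⟨b, hb⟩), ?_⟩
    rw [← map_mul, ← map_mul, hc]
    exact congrArg _ (by linear_combination c * hw₁ ⟨b, hb⟩)

end Spread

variable {X : Scheme.{u}}

/-- Along factorial points, an ideal sheaf all of whose associated points have codimension one is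
effective Cartier. -/
theorem isEffCartierIdeal_of_associatedPrimes [IsLocallyNoetherian X] (I : X.IdealSheafData)
    (hufd : ∀ x : X, x ∈ I.support → IsDomain (X.presheaf.stalk x) ∧ UniqueFactorizationMonoid (X.presheaf.stalk x))
    (h : ∀ (W : X.affineOpens) (q : PrimeSpectrum Γ(X, W.1)),
      IsAssociatedPrime q.asIdeal (Γ(X, W.1) ⧸ I.ideal W) → pt W.2 q ∈ I.support →
        ringKrullDim (X.presheaf.stalk (pt W.2 q)) = 1) :
    BlowUp.IsEffCartierIdeal I := by
  intro x
  obtain ⟨_, ⟨W₀, (hW : IsAffineOpen W₀), rfl⟩, (hxW : x ∈ W₀), -⟩ := X.isBasis_affineOpens.exists_subset_of_mem_open (Set.mem_univ x) isOpen_univ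
  let W : X.affineOpens := ⟨W₀, hW⟩
  haveI : IsNoetherianRing Γ(X, W₀) := IsLocallyNoetherian.component_noetherian (X := X) W
  let p := (hW.primeIdealOf ⟨x, hxW⟩).asIdeal
  letI := TopCat.Presheaf.algebra_section_stalk X.presheaf (⟨x, hxW⟩ : W₀)
  haveI hloc := hW.isLocalization_stalk ⟨x, hxW⟩
  have key : ∃ d : X.presheaf.stalk x, d ∈ nonZeroDivisors (X.presheaf.stalk x) ∧
      (I.ideal W).map (algebraMap Γ(X, W₀) (X.presheaf.stalk x)) = Ideal.span {d} := by
    have hsupp : x ∈ I.support ↔ I.ideal W ≤ p := by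
      rw [SetLike.le_def]
      refine Iff.trans ?_ (forall₂_congr fun f _ => not_iff_comm.mp (Iff.symm (mem_basicOpen_iff hW hxW f)))
      have := Set.ext_iff.mp (I.coe_support_inter W) x
      rw [Set.mem_inter_iff, Set.mem_inter_iff, Scheme.mem_zeroLocus_iff] at this
      simpa [W, hxW] using this
    by_cases hx : x ∈ I.support
    · obtain ⟨hdom, hu⟩ := hufd x hx
      haveI : IsNoetherianRing (X.presheaf.stalk x) := IsLocalization.isNoetherianRing p.primeCompl _ inferInstance
      obtain ⟨d, hd, hId⟩ := exists_span_singleton_of_associatedPrimes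
        ((I.ideal W).map (algebraMap Γ(X, W₀) (X.presheaf.stalk x))) (fun P hP => by
          haveI := hP.isPrime
          refine exists_eq_span_of_height_eq_one P ?_
          have hq : IsAssociatedPrime (P.comap (algebraMap Γ(X, W₀) (X.presheaf.stalk x))) (Γ(X, W₀) ⧸ I.ideal W) := by
            let f := Algebra.linearMap Γ(X, W₀) (X.presheaf.stalk x)
            haveI : IsLocalizedModule p.primeCompl f := (isLocalizedModule_iff_isLocalization' _ _).mpr hloc
            exact Module.associatedPrimes.comap_mem_associatedPrimes_of_mem_associatedPrimes_of_isLocalizedModule_of_fg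
              p.primeCompl ((I.ideal W).toLocalizedQuotient' (X.presheaf.stalk x) p.primeCompl f) P
              (by rw [Submodule.localized'_eq_span]; exact hP) (IsNoetherian.noetherian _)
          let q : PrimeSpectrum Γ(X, W₀) := ⟨_, hq.isPrime⟩
          have hIq : I.ideal W ≤ q.asIdeal := (Ideal.annihilator_quotient.ge.trans Submodule.annihilator_top.ge).trans hq.annihilator_le
          have hmem : pt hW q ∈ I.support := by
            have := Set.ext_iff.mp (I.coe_support_inter W) (pt hW q)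
            rw [Set.mem_inter_iff, Set.mem_inter_iff, Scheme.mem_zeroLocus_iff] at this
            refine (this.mpr ⟨fun f hf => ?_, pt_mem hW q⟩).1
            rw [mem_basicOpen_iff hW (pt_mem hW q), primeIdealOf_pt]
            exact fun hn => hn (hIq hf)
          letI := TopCat.Presheaf.algebra_section_stalk X.presheaf (⟨pt hW q, pt_mem hW q⟩ : W₀)
          haveI := hW.isLocalization_stalk ⟨pt hW q, pt_mem hW q⟩
          have h2 := h W q hq hmem
          rw [IsLocalization.AtPrime.ringKrullDim_eq_height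
            (hW.primeIdealOf ⟨pt hW q, pt_mem hW q⟩).asIdeal (X.presheaf.stalk (pt hW q)), primeIdealOf_pt] at h2
          have h3 : q.asIdeal.height = 1 := by exact_mod_cast h2
          rw [← h3]
          exact (IsLocalization.height_under p.primeCompl P).symm)
      exact ⟨d, mem_nonZeroDivisors_iff_ne_zero.mpr hd, hId⟩
    · refine ⟨1, one_mem _, ?_⟩
      rw [Ideal.span_singleton_one]
      obtain ⟨f, hf, hfp⟩ := SetLike.not_le_iff_exists.mp (mt hsupp.mpr hx)
      exact Ideal.eq_top_of_isUnit_mem _ (Ideal.mem_map_of_mem _ hf) (IsLocalization.map_units _ (⟨f, hfp⟩ : p.primeCompl))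
  obtain ⟨d, hd, hId⟩ := key
  obtain ⟨f, hfp, a, -, hloc'⟩ := exists_span_singleton_near p _ (I.ideal W) d hd hId
  refine ⟨⟨X.basicOpen f, hW.basicOpen f⟩, (mem_basicOpen_iff hW hxW f).mpr hfp, ?_⟩
  letI := (X.presheaf.map (homOfLE (X.basicOpen_le f)).op).hom.toAlgebra
  haveI := hW.isLocalization_basicOpen f
  obtain ⟨h1, h2⟩ := hloc' Γ(X, X.basicOpen f)
  refine ⟨_, h1, ?_⟩
  rw [← h2]
  exact (I.map_ideal' (U := ⟨X.basicOpen f, hW.basicOpen f⟩) (V := W) (homOfLE (X.basicOpen_le f)).op).symm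

end Groth.Agent.InvExtend

namespace Groth.Agent.InvExtend

open AlgebraicGeometry CategoryTheory TopologicalSpace

universe u

/-- An associated prime of `A ⧸ I` gives a point of the closed subscheme with associated maximal ideal. -/
theorem exists_assoc_point_subscheme {X : Scheme.{u}} (I : X.IdealSheafData) (W : X.affineOpens)
    [IsNoetherianRing Γ(X, W.1)] (q : PrimeSpectrum Γ(X, W.1))
    (hq : IsAssociatedPrime q.asIdeal (Γ(X, W.1) ⧸ I.ideal W)) :
    ∃ z : I.subscheme, I.subschemeι z = pt W.2 q ∧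
      IsAssociatedPrime (IsLocalRing.maximalIdeal (I.subscheme.presheaf.stalk z)) (I.subscheme.presheaf.stalk z) := by
  let V := I.subschemeι ⁻¹ᵁ W.1
  have hV : IsAffineOpen V := W.2.preimage I.subschemeι
  let φ : Γ(X, W.1) →+* Γ(I.subscheme, V) := (I.subschemeι.app W.1).hom
  have hφ : Function.Surjective φ := I.subschemeι_app_surjective W
  have hker : RingHom.ker φ = I.ideal W := I.ker_subschemeι_app W
  have hle : RingHom.ker φ ≤ q.asIdeal :=
    hker.le.trans ((Ideal.annihilator_quotient.ge.trans Submodule.annihilator_top.ge).trans hq.annihilator_le)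
  haveI := Ideal.map_isPrime_of_surjective hφ hle
  let q' : PrimeSpectrum Γ(I.subscheme, V) := ⟨q.asIdeal.map φ, ‹_›⟩
  have hass : IsAssociatedPrime q'.asIdeal Γ(I.subscheme, V) := by
    obtain ⟨hp, x, hx⟩ := hq
    obtain ⟨a, rfl⟩ := Ideal.Quotient.mk_surjective x
    refine ⟨‹_›, φ a, ?_⟩
    rw [show q'.asIdeal = q.asIdeal.map φ from rfl, hx]
    ext b
    obtain ⟨c, rfl⟩ := hφ b
    rw [← Ideal.mem_comap, Ideal.comap_map_of_surjective' φ hφ]
    simp only [Ideal.mem_radical_iff, Submodule.mem_colon_singleton, Submodule.mem_bot]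
    constructor
    · intro h
      rw [sup_eq_left.mpr (hx ▸ hle)] at h
      obtain ⟨n, hn⟩ := h
      rw [Submodule.mem_colon_singleton, Submodule.mem_bot] at hn
      refine ⟨n, ?_⟩
      rw [smul_eq_mul, ← map_pow, ← map_mul]
      exact hker.ge (Ideal.Quotient.eq_zero_iff_mem.mp hn)
    · rintro ⟨n, hn⟩
      refine Ideal.mem_sup_left ⟨n, ?_⟩
      rw [Submodule.mem_colon_singleton, Submodule.mem_bot]
      rw [smul_eq_mul, ← map_pow, ← map_mul] at hn
      exact Ideal.Quotient.eq_zero_iff_mem.mpr (hker.le hn)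
  let z := pt hV q'
  refine ⟨z, ?_, ?_⟩
  · have hz : I.subschemeι z ∈ W.1 := pt_mem hV q'
    have e : W.2.primeIdealOf ⟨_, hz⟩ = q := by
      ext a
      have hq' : q.asIdeal = (q.asIdeal.map φ).comap φ := by
        rw [Ideal.comap_map_of_surjective' φ hφ, sup_eq_left.mpr hle]
      rw [hq', Ideal.mem_comap, ← not_iff_not, ← mem_basicOpen_iff W.2 hz a]
      have h2 : z ∈ I.subscheme.basicOpen (φ a) ↔ φ a ∉ q.asIdeal.map φ := by
        rw [mem_basicOpen_iff hV (pt_mem hV q'), primeIdealOf_pt]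
      rw [← h2, ← Scheme.preimage_basicOpen I.subschemeι a]
      rfl
    exact (W.2.fromSpec_primeIdealOf ⟨_, hz⟩).symm.trans (congrArg W.2.fromSpec e)
  · letI := TopCat.Presheaf.algebra_section_stalk I.subscheme.presheaf (⟨z, pt_mem hV q'⟩ : V)
    haveI hloc := hV.isLocalization_stalk ⟨z, pt_mem hV q'⟩
    let P := (hV.primeIdealOf ⟨z, pt_mem hV q'⟩).asIdeal
    let f := Algebra.linearMap Γ(I.subscheme, V) (I.subscheme.presheaf.stalk z)
    haveI : IsLocalizedModule P.primeCompl f := (isLocalizedModule_iff_isLocalization' _ _).mpr hloc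
    refine Module.associatedPrimes.mem_associatedPrimes_of_comap_mem_associatedPrimes_of_isLocalizedModule
      P.primeCompl f _ ?_
    rw [← Ideal.under_def, IsLocalization.AtPrime.under_maximalIdeal (I.subscheme.presheaf.stalk z) P]
    change IsAssociatedPrime P _
    rwa [show P = q'.asIdeal from congrArg PrimeSpectrum.asIdeal (primeIdealOf_pt hV q')]

end Groth.Agent.InvExtend
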