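import Mathlib

/-! Commutative algebra for extending invertible modules through points with factorial local rings. -/

set_option linter.style.haveILetI false
set_option linter.unusedSectionVars false

namespace Groth.Agent.InvExtend

universe u

section UFD

variable {R : Type u} [CommRing R] [IsDomain R] [UniqueFactorizationMonoid R]

lemma exists_split {a : R} (ha : a ≠ 0) (g : R) :
    ∃ u v : R, a = u * v ∧ (∃ n : ℕ, v ∣ g ^ n) ∧ ∀ π : R, Prime π → π ∣ u → ¬ π ∣ g := by
  induction a using UniqueFactorizationMonoid.induction_on_prime with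
  | h₁ => exact absurd rfl ha
  | h₂ x hx =>
    exact ⟨x, 1, (mul_one x).symm, ⟨0, one_dvd _⟩, fun π hπ h => absurd (isUnit_of_dvd_unit h hx) hπ.not_isUnit⟩
  | h₃ a p ha' hp ih =>
    obtain ⟨u, v, rfl, ⟨n, hn⟩, hu⟩ := ih ha'
    by_cases hpg : p ∣ g
    · exact ⟨u, p * v, by ring, ⟨n + 1, by rw [pow_succ']; exact mul_dvd_mul hpg hn⟩, hu⟩
    · refine ⟨p * u, v, by ring, ⟨n, hn⟩, fun π hπ h hπg => ?_⟩
      rcases hπ.dvd_or_dvd h with h | h
      · exact hpg ((hπ.associated_of_dvd hp h).symm.dvd.trans hπg)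
      · exact hu π hπ h hπg

/-- A common "divisor" of compatible local equations on the opens `g j ≠ 0`. -/
lemma exists_common_equation {ι : Type*} [Finite ι] (g a : ι → R) (ha : ∀ j, a j ≠ 0)
    (hcomp : ∀ i j, ∃ n : ℕ, a i ∣ (g i * g j) ^ n * a j) :
    ∃ e : R, e ≠ 0 ∧ (∀ j, ∃ n : ℕ, a j ∣ g j ^ n * e ∧ e ∣ g j ^ n * a j) ∧
      ∀ π : R, Prime π → π ∣ e → ∃ j, ¬ π ∣ g j := by
  classical
  cases nonempty_fintype ι
  letI := (inferInstance : Nonempty (NormalizedGCDMonoid R)).some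
  choose u v huv hv hu using fun j => exists_split (ha j) (g j)
  choose n hn using hv
  choose m hm using hcomp
  have hu0 : ∀ j, u j ≠ 0 := fun j h => ha j (by rw [huv j, h, zero_mul])
  refine ⟨Finset.univ.lcm u, ?_, fun j => ⟨n j + ∑ i, m i j, ?_, ?_⟩, fun π hπ h => ?_⟩
  · rw [Ne, Finset.lcm_eq_zero_iff]
    rintro ⟨j, -, hj⟩
    exact hu0 j hj
  · calc a j = v j * u j := by rw [huv j, mul_comm]
      _ ∣ g j ^ n j * Finset.univ.lcm u := mul_dvd_mul (hn j) (Finset.dvd_lcm (Finset.mem_univ j))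
      _ ∣ _ := mul_dvd_mul_right (pow_dvd_pow _ (Nat.le_add_right _ _)) _
  · refine Finset.lcm_dvd fun i _ => ?_
    have h1 : u i ∣ g j ^ m i j * a j * g i ^ m i j := by
      refine (dvd_mul_right (u i) (v i)).trans ?_
      rw [← huv i]
      refine (hm i j).trans (dvd_of_eq ?_)
      rw [mul_pow]; ring
    refine (UniqueFactorizationMonoid.dvd_of_dvd_mul_left_of_no_prime_factors (hu0 i) ?_ h1).trans ?_
    · exact fun d hd hd' hdp => hu i d hdp hd (hdp.dvd_of_dvd_pow hd')
    · refine mul_dvd_mul_right (pow_dvd_pow _ ?_) _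
      exact (Finset.single_le_sum (f := fun i => m i j) (fun _ _ => Nat.zero_le _) (Finset.mem_univ i)).trans
        (Nat.le_add_left _ _)
  · obtain ⟨j, -, hj⟩ := hπ.exists_mem_finset_dvd
      (h.trans (Finset.lcm_dvd fun i hi => Finset.dvd_prod_of_mem u hi))
    exact ⟨j, hu j π hπ hj⟩

lemma exists_prime_dvd_mem {Q : Ideal R} [hQ : Q.IsPrime] {e : R} (he : e ≠ 0) (heQ : e ∈ Q) :
    ∃ π : R, Prime π ∧ π ∣ e ∧ π ∈ Q := by
  induction e using UniqueFactorizationMonoid.induction_on_prime with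
  | h₁ => exact absurd rfl he
  | h₂ x hx => exact absurd (Q.eq_top_of_isUnit_mem heQ hx) hQ.ne_top
  | h₃ a p ha hp ih =>
    rcases hQ.mem_or_mem heQ with h | h
    · exact ⟨p, hp, dvd_mul_right p a, h⟩
    · obtain ⟨π, h1, h2, h3⟩ := ih ha h
      exact ⟨π, h1, h2.trans (dvd_mul_left a p), h3⟩

end UFD

variable {A : Type u} [CommRing A] [IsDomain A] {K : Type u} [Field K] [Algebra A K] [IsFractionRing A K]

/-- `c ∈ K` lies in the local ring of `A` at `q`. -/
def Reg (q : Ideal A) (c : K) : Prop := ∃ a b : A, b ∉ q ∧ c * algebraMap A K b = algebraMap A K a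

lemma Reg.mul {q : Ideal A} [q.IsPrime] {c c' : K} (h : Reg q c) (h' : Reg q c') : Reg q (c * c') := by
  obtain ⟨a, b, hb, e⟩ := h
  obtain ⟨a', b', hb', e'⟩ := h'
  refine ⟨a * a', b * b', fun H => (Ideal.IsPrime.mem_or_mem ‹_› H).elim hb hb', ?_⟩
  rw [map_mul, map_mul, ← e, ← e']; ring

lemma reg_of_pow {q : Ideal A} [q.IsPrime] {c : K} {b a : A} (hb : b ∉ q) (n : ℕ)
    (h : c * algebraMap A K b ^ n = algebraMap A K a) : Reg q c :=
  ⟨a, b ^ n, fun H => hb (Ideal.IsPrime.mem_of_pow_mem ‹_› n H), by rw [map_pow]; exact h⟩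

variable (p : Ideal A) [p.IsPrime]

local notation "R" => Localization.AtPrime p

lemma exists_mul_of_dvd {x y : A} (h : algebraMap A R x ∣ algebraMap A R y) :
    ∃ t : A, t ∉ p ∧ x ∣ y * t := by
  obtain ⟨c, hc⟩ := h
  obtain ⟨z, s, rfl⟩ := IsLocalization.exists_mk'_eq p.primeCompl c
  refine ⟨s, s.2, z, IsLocalization.injective R p.primeCompl_le_nonZeroDivisors ?_⟩
  rw [map_mul, map_mul, hc, mul_assoc, IsLocalization.mk'_spec]

lemma exists_associated_algebraMap (e : R) : ∃ e₀ : A, Associated (algebraMap A R e₀) e := by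
  obtain ⟨z, s, rfl⟩ := IsLocalization.exists_mk'_eq p.primeCompl e
  exact ⟨z, Associated.symm ⟨(IsLocalization.map_units R s).unit, IsLocalization.mk'_spec _ _ _⟩⟩

omit [IsFractionRing A K] in
/-- Regularity at all minimal nonzero primes below a factorial point gives regularity there. -/
lemma reg_of_height_one [IsFractionRing A K] [UniqueFactorizationMonoid R] (c : K)
    (h : ∀ q : Ideal A, q.IsPrime → q ≠ ⊥ → q ≤ p →
      (∀ q' : Ideal A, q'.IsPrime → q' ≤ q → q' = ⊥ ∨ q' = q) → Reg q c) :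
    Reg p c := by
  obtain ⟨a, b, hb, rfl⟩ := IsFractionRing.div_surjective A c
  rcases eq_or_ne a 0 with rfl | ha
  · exact ⟨0, 1, fun H => Ideal.IsPrime.ne_top ‹_› (p.eq_top_iff_one.mpr H), by simp⟩
  have hinj : Function.Injective (algebraMap A R) := IsLocalization.injective R p.primeCompl_le_nonZeroDivisors
  obtain ⟨a', b', c', hrel, hae, hbe⟩ := UniqueFactorizationMonoid.exists_reduced_factors
    (algebraMap A R a) ((map_ne_zero_iff _ hinj).mpr ha) (algebraMap A R b)
  have hb0 : b ≠ 0 := nonZeroDivisors.ne_zero hb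
  have hKb : algebraMap A K b ≠ 0 := (map_ne_zero_iff _ (IsFractionRing.injective A K)).mpr hb0
  by_cases hu : IsUnit b'
  · have hdvd : algebraMap A R b ∣ algebraMap A R a := by
      rw [← hae, ← hbe]
      exact mul_dvd_mul_left c' hu.dvd
    obtain ⟨t, ht, z, hz⟩ := exists_mul_of_dvd p hdvd
    refine ⟨z, t, ht, ?_⟩
    rw [div_mul_eq_mul_div, div_eq_iff hKb, ← map_mul, ← map_mul, hz, mul_comm z b]
  exfalso
  have hb'0 : b' ≠ 0 := fun h0 => (map_ne_zero_iff _ hinj).mpr hb0 (by rw [← hbe, h0, mul_zero])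
  obtain ⟨π, hπi, hπb⟩ := WfDvdMonoid.exists_irreducible_factor hu hb'0
  have hπ : Prime π := hπi.prime
  have hP : (Ideal.span {π}).IsPrime := (Ideal.span_singleton_prime hπ.ne_zero).mpr hπ
  let q : Ideal A := (Ideal.span {π}).comap (algebraMap A R)
  have hqp : q ≤ p := by
    intro x hx
    by_contra hxp
    exact hP.ne_top (Ideal.eq_top_of_isUnit_mem _ hx (IsLocalization.map_units (M := p.primeCompl) R ⟨x, hxp⟩))
  have hq0 : q ≠ ⊥ := by
    obtain ⟨z, s, hzs⟩ := IsLocalization.exists_mk'_eq p.primeCompl π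
    intro H
    have hz : z ∈ q := by
      change algebraMap A R z ∈ Ideal.span {π}
      rw [← IsLocalization.mk'_spec R z s, hzs]
      exact Ideal.mem_span_singleton.mpr (dvd_mul_right _ _)
    rw [H, Ideal.mem_bot] at hz
    apply hπ.ne_zero
    rw [← hzs, hz, IsLocalization.mk'_zero]
  obtain ⟨r, s, hs, hrs⟩ := h q (hP.comap _) hq0 hqp (fun q' hq' hle => by
    rcases eq_or_ne q' ⊥ with h0 | h0
    · exact Or.inl h0
    refine Or.inr (le_antisymm hle ?_)
    have hdisj : Disjoint (p.primeCompl : Set A) (q' : Set A) :=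
      Set.disjoint_left.mpr fun x hx hx' => hx (hqp (hle hx'))
    haveI : (Ideal.map (algebraMap A R) q').IsPrime :=
      IsLocalization.isPrime_of_isPrime_disjoint p.primeCompl R q' hq' hdisj
    obtain ⟨ρ, hρm, hρ⟩ := Ideal.IsPrime.exists_mem_prime_of_ne_bot
      (I := Ideal.map (algebraMap A R) q') ‹_› (fun H => h0 ((Ideal.map_eq_bot_iff_of_injective hinj).mp H))
    have hρπ : π ∣ ρ := Ideal.mem_span_singleton.mp (Ideal.map_le_iff_le_comap.mpr hle hρm)
    intro x hx
    have : algebraMap A R x ∈ Ideal.map (algebraMap A R) q' := by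
      obtain ⟨w, hw⟩ := (hπ.associated_of_dvd hρ hρπ).symm.dvd.trans (Ideal.mem_span_singleton.mp hx)
      rw [hw]
      exact Ideal.mul_mem_right _ _ hρm
    rw [← IsLocalization.under_map_of_isPrime_disjoint p.primeCompl R hq' hdisj]
    exact this)
  have key : a * s = r * b := by
    apply IsFractionRing.injective A K
    rw [map_mul, map_mul, ← hrs]
    field_simp
  have key' : a' * algebraMap A R s = algebraMap A R r * b' := by
    have hc' : c' ≠ 0 := fun h0 => (map_ne_zero_iff _ hinj).mpr ha (by rw [← hae, h0, zero_mul])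
    refine mul_left_cancel₀ hc' ?_
    rw [← mul_assoc, hae, mul_left_comm, hbe, ← map_mul, ← map_mul, key]
  rcases hπ.dvd_or_dvd (hπb.trans (Dvd.intro_left _ key'.symm)) with h1 | h1
  · exact hπ.not_isUnit (hrel h1 hπb)
  · exact hs (Ideal.mem_span_singleton.mpr h1)

/-- Extending compatible local equations across a factorial point `p`. -/
lemma exists_gen [IsNoetherianRing A] [UniqueFactorizationMonoid R] {ι : Type*} [Finite ι]
    (g : ι → A) (h : ι → K) (hh : ∀ j, h j ≠ 0)
    (hcomp : ∀ i j, ∃ (n : ℕ) (a : A), h i * algebraMap A K (g i * g j) ^ n = algebraMap A K a * h j) :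
    ∃ f : A, f ∉ p ∧ ∃ e : K, e ≠ 0 ∧
      (∀ (j : ι) (q : Ideal A), q.IsPrime → f ∉ q → g j ∉ q → Reg q (h j / e) ∧ Reg q (e / h j)) ∧
      (∀ q : Ideal A, q.IsPrime → q ≠ ⊥ → f ∉ q → (∀ q' : Ideal A, q'.IsPrime → q' ≤ q → q' = ⊥ ∨ q' = q) →
        (∀ j, g j ∈ q) → Reg q e ∧ Reg q e⁻¹) := by
  classical
  cases nonempty_fintype ι
  have hinj : Function.Injective (algebraMap A R) := IsLocalization.injective R p.primeCompl_le_nonZeroDivisors
  have hKinj : Function.Injective (algebraMap A K) := IsFractionRing.injective A K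
  obtain ⟨⟨d, hd⟩, hda⟩ := IsLocalization.exist_integer_multiples_of_finite (nonZeroDivisors A) h
  have hd0 : d ≠ 0 := nonZeroDivisors.ne_zero hd
  have hKd : algebraMap A K d ≠ 0 := (map_ne_zero_iff _ hKinj).mpr hd0
  choose a ha using hda
  have ha' : ∀ j, algebraMap A K (a j) = algebraMap A K d * h j := fun j => by
    rw [ha j, Algebra.smul_def]
  have ha0 : ∀ j, a j ≠ 0 := fun j H => by
    have := ha' j
    rw [H, map_zero] at this
    exact (mul_ne_zero hKd (hh j)) this.symm
  obtain ⟨E, hE0, hE, hEπ⟩ := exists_common_equation (fun j => algebraMap A R (g j))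
    (fun j => algebraMap A R (a j)) (fun j => (map_ne_zero_iff _ hinj).mpr (ha0 j)) (fun i j => by
      obtain ⟨n, b, hb⟩ := hcomp j i
      refine ⟨n, algebraMap A R b, ?_⟩
      rw [← map_mul, ← map_pow, ← map_mul, ← map_mul]
      congr 1
      apply hKinj
      simp only [map_mul, map_pow, ha'] at hb ⊢
      linear_combination (algebraMap A K d) * hb)
  obtain ⟨D, hD0, hD, hDπ⟩ := exists_common_equation (fun j => algebraMap A R (g j))
    (fun _ => algebraMap A R d) (fun _ => (map_ne_zero_iff _ hinj).mpr hd0) (fun _ _ => ⟨0, by simp⟩)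
  obtain ⟨e₀, hae⟩ := exists_associated_algebraMap p E
  obtain ⟨d₀, had⟩ := exists_associated_algebraMap p D
  have he0 : e₀ ≠ 0 := fun H => hE0 (by rw [H, map_zero] at hae; exact (associated_zero_iff_eq_zero E).mp hae.symm)
  have hd00 : d₀ ≠ 0 := fun H => hD0 (by rw [H, map_zero] at had; exact (associated_zero_iff_eq_zero D).mp had.symm)
  choose n hn1 hn2 using hE
  choose m hm1 hm2 using hD
  have step : ∀ (x y z : A) (k : ℕ), algebraMap A R x ∣ algebraMap A R z ^ k * algebraMap A R y →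
      ∃ t : A, t ∉ p ∧ x ∣ z ^ k * y * t := fun x y z k hxy =>
    exists_mul_of_dvd p (by rwa [map_mul, map_pow])
  choose t1 ht1 hdv1 using fun j => step (a j) e₀ (g j) (n j) ((hn1 j).trans (mul_dvd_mul_left _ hae.symm.dvd))
  choose t2 ht2 hdv2 using fun j => step e₀ (a j) (g j) (n j) (hae.dvd.trans (hn2 j))
  choose t3 ht3 hdv3 using fun j => step d d₀ (g j) (m j) ((hm1 j).trans (mul_dvd_mul_left _ had.symm.dvd))
  choose t4 ht4 hdv4 using fun j => step d₀ d (g j) (m j) (had.dvd.trans (hm2 j))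
  let S : Finset (Ideal A) :=
    ((Ideal.finite_minimalPrimes_of_isNoetherianRing A (Ideal.span {e₀})).toFinset ∪
      (Ideal.finite_minimalPrimes_of_isNoetherianRing A (Ideal.span {d₀})).toFinset).filter (fun q => ¬ q ≤ p)
  have hz : ∀ q : S, ∃ z ∈ (q : Ideal A), z ∉ p := fun q =>
    SetLike.not_le_iff_exists.mp (Finset.mem_filter.mp q.2).2
  choose z hzq hzp using hz
  let f : A := (∏ j, t1 j * t2 j * t3 j * t4 j) * ∏ q : S, z q
  have hfp : f ∉ p := by
    intro H
    rcases Ideal.IsPrime.mem_or_mem ‹_› H with H | H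
    · obtain ⟨j, -, hj⟩ := (Ideal.IsPrime.prod_mem_iff (hp := ‹p.IsPrime›)).mp H
      rcases Ideal.IsPrime.mem_or_mem ‹_› hj with hj | hj
      · rcases Ideal.IsPrime.mem_or_mem ‹_› hj with hj | hj
        · exact (Ideal.IsPrime.mem_or_mem ‹_› hj).elim (ht1 j) (ht2 j)
        · exact ht3 j hj
      · exact ht4 j hj
    · obtain ⟨q, -, hq⟩ := (Ideal.IsPrime.prod_mem_iff (hp := ‹p.IsPrime›)).mp H
      exact hzp q hq
  have hKe : algebraMap A K e₀ ≠ 0 := (map_ne_zero_iff _ hKinj).mpr he0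
  have hKd0 : algebraMap A K d₀ ≠ 0 := (map_ne_zero_iff _ hKinj).mpr hd00
  refine ⟨f, hfp, algebraMap A K e₀ / algebraMap A K d₀, div_ne_zero hKe hKd0, ?_, ?_⟩
  · intro j q hq hfq hgq
    have hj : t1 j * t2 j * t3 j * t4 j ∉ q := fun H =>
      hfq (Ideal.mul_mem_right _ _ (Ideal.mem_of_dvd _ (Finset.dvd_prod_of_mem _ (Finset.mem_univ j)) H))
    have hj1 : t1 j ∉ q := fun H => hj (Ideal.mul_mem_right _ _ (Ideal.mul_mem_right _ _ (Ideal.mul_mem_right _ _ H)))
    have hj2 : t2 j ∉ q := fun H => hj (Ideal.mul_mem_right _ _ (Ideal.mul_mem_right _ _ (Ideal.mul_mem_left _ _ H)))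
    have hj3 : t3 j ∉ q := fun H => hj (Ideal.mul_mem_right _ _ (Ideal.mul_mem_left _ _ H))
    have hj4 : t4 j ∉ q := fun H => hj (Ideal.mul_mem_left _ _ H)
    obtain ⟨c1, hc1⟩ := hdv1 j
    obtain ⟨c2, hc2⟩ := hdv2 j
    obtain ⟨c3, hc3⟩ := hdv3 j
    obtain ⟨c4, hc4⟩ := hdv4 j
    have k1 := congrArg (algebraMap A K) hc1
    have k2 := congrArg (algebraMap A K) hc2
    have k3 := congrArg (algebraMap A K) hc3
    have k4 := congrArg (algebraMap A K) hc4
    simp only [map_mul, map_pow, ha'] at k1 k2 k3 k4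
    have hmem : ∀ t t' : A, t ∉ q → t' ∉ q → g j ^ n j * t * (g j ^ m j * t') ∉ q := by
      intro t t' ht ht' H
      rcases hq.mem_or_mem H with H | H
      · exact (hq.mem_or_mem H).elim (fun H => hgq (hq.mem_of_pow_mem _ H)) ht
      · exact (hq.mem_or_mem H).elim (fun H => hgq (hq.mem_of_pow_mem _ H)) ht'
    constructor
    · refine ⟨c2 * c3, g j ^ n j * t2 j * (g j ^ m j * t3 j), hmem _ _ hj2 hj3, ?_⟩
      simp only [map_mul, map_pow]
      field_simp
      refine mul_left_cancel₀ hKd ?_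
      linear_combination (algebraMap A K d₀ * algebraMap A K (g j) ^ m j * algebraMap A K (t3 j)) * k2 +
        (algebraMap A K e₀ * algebraMap A K c2) * k3
    · refine ⟨c1 * c4, g j ^ n j * t1 j * (g j ^ m j * t4 j), hmem _ _ hj1 hj4, ?_⟩
      simp only [map_mul, map_pow]
      have hhj := hh j
      field_simp
      refine mul_left_cancel₀ hKd ?_
      linear_combination (algebraMap A K e₀ * algebraMap A K (g j) ^ n j * algebraMap A K (t1 j)) * k4 +
        (algebraMap A K d₀ * algebraMap A K c4) * k1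
  · intro q hq hq0 hfq hmin hgq
    have key : ∀ x : A, x ≠ 0 →
        ((Ideal.finite_minimalPrimes_of_isNoetherianRing A (Ideal.span {x})).toFinset ⊆
          (Ideal.finite_minimalPrimes_of_isNoetherianRing A (Ideal.span {e₀})).toFinset ∪
            (Ideal.finite_minimalPrimes_of_isNoetherianRing A (Ideal.span {d₀})).toFinset) →
        (∀ π : R, Prime π → π ∣ algebraMap A R x → ∃ j, ¬ π ∣ algebraMap A R (g j)) → x ∉ q := by
      intro x hx0 hsub hπ hxq
      have hqmin : q ∈ (Ideal.span {x}).minimalPrimes := by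
        refine ⟨⟨hq, (Ideal.span_singleton_le_iff_mem _).mpr hxq⟩, fun q' ⟨hq', hxq'⟩ hle => ?_⟩
        rcases hmin q' hq' hle with rfl | rfl
        · exact absurd ((Ideal.span_singleton_le_iff_mem _).mp hxq') (by simpa using hx0)
        · exact le_rfl
      by_cases hqp : q ≤ p
      · have hdisj : Disjoint (p.primeCompl : Set A) (q : Set A) :=
          Set.disjoint_left.mpr fun y hy hy' => hy (hqp hy')
        haveI : (Ideal.map (algebraMap A R) q).IsPrime :=
          IsLocalization.isPrime_of_isPrime_disjoint p.primeCompl R q hq hdisj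
        obtain ⟨π, hπ1, hπ2, hπ3⟩ := exists_prime_dvd_mem (Q := Ideal.map (algebraMap A R) q)
          ((map_ne_zero_iff _ hinj).mpr hx0) (Ideal.mem_map_of_mem _ hxq)
        have hP : (Ideal.span {π}).IsPrime := (Ideal.span_singleton_prime hπ1.ne_zero).mpr hπ1
        obtain ⟨j, hj⟩ := hπ π hπ1 hπ2
        apply hj
        have hle : (Ideal.span {π}).comap (algebraMap A R) ≤ q := by
          rw [← IsLocalization.under_map_of_isPrime_disjoint p.primeCompl R hq hdisj]
          exact Ideal.comap_mono ((Ideal.span_singleton_le_iff_mem _).mpr hπ3)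
        rcases hmin _ (hP.comap _) hle with h0 | h0
        · exfalso
          obtain ⟨c, s, hcs⟩ := IsLocalization.exists_mk'_eq p.primeCompl π
          have hc : c ∈ (Ideal.span {π}).comap (algebraMap A R) := by
            change algebraMap A R c ∈ Ideal.span {π}
            rw [← IsLocalization.mk'_spec R c s, hcs]
            exact Ideal.mem_span_singleton.mpr (dvd_mul_right _ _)
          rw [h0, Ideal.mem_bot] at hc
          apply hπ1.ne_zero
          rw [← hcs, hc, IsLocalization.mk'_zero]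
        · exact Ideal.mem_span_singleton.mp (Ideal.mem_comap.mp (h0.symm ▸ hgq j))
      · have hqS : q ∈ S := Finset.mem_filter.mpr ⟨hsub ((Set.Finite.mem_toFinset _).mpr hqmin), hqp⟩
        exact hfq (Ideal.mul_mem_left _ _
          (Ideal.mem_of_dvd _ (Finset.dvd_prod_of_mem z (Finset.mem_univ ⟨q, hqS⟩)) (hzq ⟨q, hqS⟩)))
    have h1 := key e₀ he0 Finset.subset_union_left (fun π hπ hd => hEπ π hπ (hd.trans hae.dvd))
    have h2 := key d₀ hd00 Finset.subset_union_right (fun π hπ hd => hDπ π hπ (hd.trans had.dvd))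
    exact ⟨⟨e₀, d₀, h2, div_mul_cancel₀ _ hKd0⟩, ⟨d₀, e₀, h1, by rw [inv_div, div_mul_cancel₀ _ hKe]⟩⟩

end Groth.Agent.InvExtend
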