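import Groth.Agent.InvExtend.Algebra
import Groth.Agent.SectExt.Basic
import Groth.Prelude.Def_BlowUp2
import Mathlib.AlgebraicGeometry.IdealSheaf.Functorial

/-! Effective Cartier divisors extend across factorial points. -/

set_option linter.style.haveILetI false

namespace Groth.Agent.InvExtend

open AlgebraicGeometry CategoryTheory TopologicalSpace

universe u

section UFD

variable {R : Type u} [CommRing R] [IsDomain R] [UniqueFactorizationMonoid R]

lemma dvd_of_forall_dvd_pow_mul {ι : Type*} (g : ι → R) {E : R} (hE : E ≠ 0)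
    (hEπ : ∀ π : R, Prime π → π ∣ E → ∃ j, ¬ π ∣ g j) :
    ∀ a : R, (∀ j, ∃ n : ℕ, E ∣ g j ^ n * a) → E ∣ a := by
  induction E using UniqueFactorizationMonoid.induction_on_prime with
  | h₁ => exact absurd rfl hE
  | h₂ x hx => exact fun a _ => hx.dvd
  | h₃ e p he hp ih =>
    intro a ha
    obtain ⟨j, hj⟩ := hEπ p hp (dvd_mul_right p e)
    obtain ⟨n, hn⟩ := ha j
    obtain ⟨a', rfl⟩ : p ∣ a := (hp.dvd_or_dvd ((dvd_mul_right p e).trans hn)).resolve_left
      fun h => hj (hp.dvd_of_dvd_pow h)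
    refine mul_dvd_mul_left p (ih he (fun π hπ h => hEπ π hπ (h.trans (dvd_mul_left e p))) a' fun k => ?_)
    obtain ⟨m, hm⟩ := ha k
    exact ⟨m, (mul_dvd_mul_iff_left hp.ne_zero).mp (by rwa [mul_left_comm] at hm)⟩

end UFD

variable {A : Type u} [CommRing A] [IsDomain A]

/-- The ideal cut out by compatible local equations is principal near a factorial point. -/
lemma exists_principal_near [IsNoetherianRing A] (p : Ideal A) [p.IsPrime]
    [UniqueFactorizationMonoid (Localization.AtPrime p)] {ι : Type*} [Finite ι] (g a : ι → A)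
    (ha : ∀ j, a j ≠ 0) (hcomp : ∀ i j, ∃ n : ℕ, a i ∣ (g i * g j) ^ n * a j) (J : Ideal A)
    (hJ : ∀ b : A, b ∈ J ↔ ∀ j, ∃ n : ℕ, a j ∣ g j ^ n * b) :
    ∃ f : A, f ∉ p ∧ ∃ e ∈ J, e ≠ 0 ∧ ∀ b ∈ J, ∃ k : ℕ, e ∣ f ^ k * b := by
  classical
  cases nonempty_fintype ι
  let R := Localization.AtPrime p
  have hinj : Function.Injective (algebraMap A R) :=
    IsLocalization.injective R p.primeCompl_le_nonZeroDivisors
  have hmap : ∀ {x y z : A} {k : ℕ}, x ∣ z ^ k * y → algebraMap A R x ∣ algebraMap A R z ^ k * algebraMap A R y :=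
    fun h => by have := map_dvd (algebraMap A R) h; rwa [map_mul, map_pow] at this
  obtain ⟨E, hE0, hE, hEπ⟩ := exists_common_equation (fun j => algebraMap A R (g j))
    (fun j => algebraMap A R (a j)) (fun j => (map_ne_zero_iff _ hinj).mpr (ha j)) (fun i j => by
      obtain ⟨n, hn⟩ := hcomp i j
      exact ⟨n, by rw [← map_mul]; exact hmap hn⟩)
  obtain ⟨e₀, hae⟩ := exists_associated_algebraMap p E
  choose n hn1 hn2 using hE
  have step : ∀ j, ∃ t : A, t ∉ p ∧ a j ∣ g j ^ n j * e₀ * t := fun j =>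
    exists_mul_of_dvd p (by rw [map_mul, map_pow]; exact (hn1 j).trans (mul_dvd_mul_left _ hae.symm.dvd))
  choose t ht hdvd using step
  let T := ∏ j, t j
  have hT : T ∉ p := fun H => by
    obtain ⟨j, -, hj⟩ := (Ideal.IsPrime.prod_mem_iff (hp := ‹p.IsPrime›)).mp H
    exact ht j hj
  have heJ : T * e₀ ∈ J := (hJ _).mpr fun j => ⟨n j, (hdvd j).trans (by
    rw [mul_comm T e₀, ← mul_assoc]
    exact mul_dvd_mul_left _ (Finset.dvd_prod_of_mem t (Finset.mem_univ j)))⟩
  have hgen : ∀ b ∈ J, ∃ s : A, s ∉ p ∧ T * e₀ ∣ b * s := by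
    intro b hb
    refine exists_mul_of_dvd p ?_
    have hTu : IsUnit (algebraMap A R T) := IsLocalization.map_units (M := p.primeCompl) R ⟨T, hT⟩
    rw [map_mul, hTu.mul_left_dvd]
    refine hae.dvd.trans (dvd_of_forall_dvd_pow_mul _ hE0 hEπ _ fun j => ?_)
    obtain ⟨m, hm⟩ := (hJ b).mp hb j
    refine ⟨n j + m, (hn2 j).trans ?_⟩
    rw [pow_add, mul_assoc]
    exact mul_dvd_mul_left _ (hmap hm)
  obtain ⟨S, hS⟩ := IsNoetherian.noetherian J
  choose s hs hsdvd using fun b : S => hgen b.1 (hS ▸ Submodule.subset_span b.2)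
  refine ⟨∏ b, s b, fun H => ?_, T * e₀, heJ, ?_, fun b hb => ⟨1, ?_⟩⟩
  · obtain ⟨b, -, hb⟩ := (Ideal.IsPrime.prod_mem_iff (hp := ‹p.IsPrime›)).mp H
    exact hs b hb
  · refine mul_ne_zero (fun h => hT (h ▸ zero_mem p)) fun h => hE0 ?_
    rw [h, map_zero] at hae
    exact (associated_zero_iff_eq_zero E).mp hae.symm
  · rw [pow_one]
    rw [← hS] at hb
    induction hb using Submodule.span_induction with
    | mem b hb =>
      refine (hsdvd ⟨b, hb⟩).trans ?_
      rw [mul_comm b]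
      exact mul_dvd_mul_right (Finset.dvd_prod_of_mem s (Finset.mem_univ _)) _
    | zero => rw [mul_zero]; exact dvd_zero _
    | add x y _ _ hx hy => rw [mul_add]; exact dvd_add hx hy
    | smul r x _ hx => rw [smul_eq_mul, mul_left_comm]; exact hx.mul_left r

variable {X : Scheme.{u}}

/-- Membership in the kernel ideal may be checked on affine opens covering the image. -/
lemma mem_ker_ideal_iff {Z : Scheme.{u}} (φ : Z ⟶ X) [QuasiCompact φ] (W : X.affineOpens) {ι : Type*}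
    (V : ι → X.affineOpens) (hV : ∀ i, (V i).1 ≤ W.1) (hcov : ∀ z : Z, φ z ∈ W.1 → ∃ i, φ z ∈ (V i).1)
    (a : Γ(X, W.1)) :
    a ∈ φ.ker.ideal W ↔ ∀ i, X.presheaf.map (homOfLE (hV i)).op a ∈ φ.ker.ideal (V i) := by
  simp only [Scheme.Hom.ker_apply, RingHom.mem_ker]
  have hnat : ∀ i, φ.app (V i).1 (X.presheaf.map (homOfLE (hV i)).op a) =
      Z.presheaf.map (homOfLE (φ.preimage_mono (hV i))).op (φ.app W.1 a) := fun i =>
    ConcreteCategory.congr_hom (φ.naturality (homOfLE (hV i)).op) a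
  refine ⟨fun h i => by rw [hnat, h, map_zero], fun h => ?_⟩
  refine TopCat.Presheaf.section_ext Z.sheaf (φ ⁻¹ᵁ W.1) _ 0 fun z hz => ?_
  obtain ⟨i, hi⟩ := hcov z hz
  have h2 := (TopCat.Presheaf.germ_res_apply Z.presheaf (homOfLE (φ.preimage_mono (hV i))) z hi (φ.app W.1 a)).symm
  refine h2.trans ?_
  rw [← hnat, h i]
  exact (map_zero (Z.presheaf.germ (φ ⁻¹ᵁ (V i).1) z hi).hom).trans
    (map_zero (Z.presheaf.germ (φ ⁻¹ᵁ W.1) z hz).hom).symm

/-- The scheme theoretic closure of a closed subscheme of an open. -/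
noncomputable def closureIdeal (U : X.Opens) (D : (U : Scheme.{u}).IdealSheafData) : X.IdealSheafData :=
  (D.subschemeι ≫ U.ι).ker

lemma comap_closureIdeal [IsLocallyNoetherian X] (U : X.Opens) (D : (U : Scheme.{u}).IdealSheafData) :
    (closureIdeal U D).comap U.ι = D := by
  refine Scheme.IdealSheafData.ext (funext fun V => ?_)
  rw [Scheme.IdealSheafData.ideal_comap_of_isOpenImmersion, closureIdeal, Scheme.Hom.ker_apply,
    ← Scheme.IdealSheafData.ker_subschemeι_app D V]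
  refine SetLike.ext fun x => ?_
  change D.subschemeι.app (U.ι ⁻¹ᵁ U.ι ''ᵁ V.1) (U.ι.app (U.ι ''ᵁ V.1) ((U.ι.appIso V.1).inv x)) = 0 ↔
    D.subschemeι.app V.1 x = 0
  have h1 : U.ι.app (U.ι ''ᵁ V.1) ((U.ι.appIso V.1).inv x) =
      (U : Scheme.{u}).presheaf.map (eqToHom (U.ι.preimage_image_eq V.1)).op x :=
    ConcreteCategory.congr_hom (U.ι.appIso_inv_app V.1) x
  have h2 := ConcreteCategory.congr_hom
    (D.subschemeι.naturality (eqToHom (U.ι.preimage_image_eq V.1)).op) x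
  rw [h1]
  refine Iff.trans (Eq.congr_left h2) ?_
  exact map_eq_zero_iff (D.subscheme.presheaf.map ((Opens.map D.subschemeι.base).map
    (eqToHom (U.ι.preimage_image_eq V.1))).op).hom (ConcreteCategory.bijective_of_isIso _).1

/-- Effective Cartier divisors extend across points with factorial local rings. -/
lemma isEffCartierIdeal_closureIdeal [IsLocallyNoetherian X] (U : X.Opens)
    (D : (U : Scheme.{u}).IdealSheafData) (hD : BlowUp.IsEffCartierIdeal D)
    (hufd : ∀ x : X, x ∉ U → IsDomain (X.presheaf.stalk x) ∧ UniqueFactorizationMonoid (X.presheaf.stalk x)) :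
    BlowUp.IsEffCartierIdeal (closureIdeal U D) := by
  classical
  let D' := closureIdeal U D
  -- transport to affine opens of `X` inside `U`
  have hUcase : ∀ x ∈ U, ∃ V : X.affineOpens, x ∈ V.1 ∧ V.1 ≤ U ∧
      ∃ f ∈ nonZeroDivisors Γ(X, V.1), D'.ideal V = Ideal.span {f} := by
    intro x hx
    obtain ⟨V, hxV, f, hf, hDV⟩ := hD ⟨x, hx⟩
    have h : (D'.comap U.ι).ideal V = Ideal.span {f} := by rw [comap_closureIdeal]; exact hDV
    rw [Scheme.IdealSheafData.ideal_comap_of_isOpenImmersion] at h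
    let e := (U.ι.appIso V.1).symm.commRingCatIsoToRingEquiv
    refine ⟨⟨U.ι ''ᵁ V.1, V.2.image_of_isOpenImmersion U.ι⟩, ⟨⟨x, hx⟩, hxV, rfl⟩,
      (U.ι.image_mono le_top).trans U.ι_image_top.le, e f, ?_, ?_⟩
    · refine mem_nonZeroDivisors_iff_right.mpr fun z hz => e.symm.injective ?_
      rw [map_zero]
      refine mem_nonZeroDivisors_iff_right.mp hf _ ?_
      have := congrArg e.symm hz
      rwa [map_mul, e.symm_apply_apply, map_zero] at this
    · rw [← Set.image_singleton, ← Ideal.map_span, ← h]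
      exact (Ideal.map_comap_of_surjective (e : Γ((U : Scheme.{u}), V.1) →+* Γ(X, U.ι ''ᵁ V.1)) e.surjective _).symm
  intro x
  by_cases hx : x ∈ U
  · obtain ⟨V, hxV, -, h⟩ := hUcase x hx
    exact ⟨V, hxV, h⟩
  obtain ⟨hdx, hufdx⟩ := hufd x hx
  obtain ⟨W₀, hxW, hW, hint⟩ := SectExt.exists_isIntegral_nhd x
  haveI : Nonempty (W₀ : Scheme.{u}) := ⟨⟨x, hxW⟩⟩
  haveI : IsDomain Γ(X, W₀) := W₀.topIso.symm.commRingCatIsoToRingEquiv.toMulEquiv.isDomain
  haveI : IsNoetherianRing Γ(X, W₀) := IsLocallyNoetherian.component_noetherian (X := X) ⟨W₀, hW⟩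
  let p := (hW.primeIdealOf ⟨x, hxW⟩).asIdeal
  haveI : UniqueFactorizationMonoid (Localization.AtPrime p) := by
    letI := TopCat.Presheaf.algebra_section_stalk X.presheaf (⟨x, hxW⟩ : W₀)
    haveI := hW.isLocalization_stalk ⟨x, hxW⟩
    exact (IsLocalization.algEquiv p.primeCompl (X.presheaf.stalk x)
      (Localization.AtPrime p)).toMulEquiv.uniqueFactorizationMonoid hufdx
  -- finitely many nonempty basic opens covering `W₀ ⊓ U` with equations coming from `A`
  let res : ∀ g : Γ(X, W₀), Γ(X, W₀) →+* Γ(X, X.basicOpen g) := fun g =>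
    (X.presheaf.map (homOfLE (X.basicOpen_le g)).op).hom
  let S : Set Γ(X, W₀) := {g | g ≠ 0 ∧ X.basicOpen g ≤ U ∧
    ∃ a : Γ(X, W₀), a ≠ 0 ∧ D'.ideal ⟨X.basicOpen g, hW.basicOpen g⟩ = Ideal.span {res g a}}
  obtain ⟨T, hTS, hspanT⟩ := (Submodule.fg_span_iff_fg_span_finset_subset S).mp
    (IsNoetherian.noetherian (Submodule.span Γ(X, W₀) S))
  have hmemq : ∀ (g : Γ(X, W₀)) {z : X} (hz : z ∈ W₀),
      z ∈ X.basicOpen g ↔ g ∉ (hW.primeIdealOf ⟨z, hz⟩).asIdeal := fun g z hz => by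
    letI := TopCat.Presheaf.algebra_section_stalk X.presheaf (⟨z, hz⟩ : W₀)
    haveI := hW.isLocalization_stalk ⟨z, hz⟩
    rw [Scheme.mem_basicOpen X g z hz]
    exact IsLocalization.AtPrime.isUnit_to_map_iff (X.presheaf.stalk z) _ g
  have hcover : ∀ z (_ : z ∈ W₀), z ∈ U → ∃ g ∈ T, z ∈ X.basicOpen g := by
    intro z hzW hzU
    obtain ⟨V, hzV, hVU, f, hf, hDV⟩ := hUcase z hzU
    obtain ⟨g, g', hgg', hzg⟩ := exists_basicOpen_le_affine_inter hW V.2 z ⟨hzW, hzV⟩
    have hg0 : g ≠ 0 := fun h => (hmemq g hzW).mp hzg (h ▸ zero_mem _)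
    have hgV : X.basicOpen g ≤ V.1 := hgg'.trans_le (X.basicOpen_le g')
    have hDg : D'.ideal ⟨X.basicOpen g, hW.basicOpen g⟩ =
        Ideal.span {X.presheaf.map (homOfLE hgV).op f} := by
      rw [← D'.map_ideal' (U := ⟨X.basicOpen g, hW.basicOpen g⟩) (V := V) (homOfLE hgV).op, hDV,
        Ideal.map_span, Set.image_singleton]
    letI := (res g).toAlgebra
    haveI : IsLocalization.Away g Γ(X, X.basicOpen g) := hW.isLocalization_basicOpen g
    obtain ⟨n, a, ha⟩ := IsLocalization.Away.surj g (X.presheaf.map (homOfLE hgV).op f)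
    have hu : IsUnit (algebraMap Γ(X, W₀) Γ(X, X.basicOpen g) g ^ n) :=
      (IsLocalization.Away.algebraMap_isUnit g).pow n
    have hDa : D'.ideal ⟨X.basicOpen g, hW.basicOpen g⟩ = Ideal.span {res g a} := by
      rw [hDg]
      refine ((Ideal.span_singleton_mul_right_unit hu _).symm.trans ?_)
      rw [ha]
      rfl
    have ha0 : a ≠ 0 := by
      intro h0
      rw [h0, map_zero] at ha
      have hf0 : X.presheaf.map (homOfLE hgV).op f = 0 := hu.mul_left_eq_zero.mp ha
      haveI : Nonempty (X.basicOpen g : Scheme.{u}) := ⟨⟨z, hzg⟩⟩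
      letI := (X.presheaf.map (homOfLE (X.basicOpen_le g')).op).hom.toAlgebra
      haveI : IsLocalization.Away g' Γ(X, X.basicOpen g') := V.2.isLocalization_basicOpen g'
      have hnz := IsLocalization.map_nonZeroDivisors_le (Submonoid.powers g') Γ(X, X.basicOpen g')
        (Submonoid.mem_map_of_mem _ hf)
      have hz' : z ∈ X.basicOpen g' := hgg' ▸ hzg
      haveI : Nonempty (X.basicOpen g' : Scheme.{u}) := ⟨⟨z, hz'⟩⟩
      refine nonZeroDivisors.ne_zero hnz ?_
      change X.presheaf.map (homOfLE (X.basicOpen_le g')).op f = 0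
      have h2 := congrArg (X.presheaf.map (homOfLE hgg'.ge).op) hf0
      rw [map_zero, ← CategoryTheory.comp_apply, ← Functor.map_comp] at h2
      exact h2
    have hgS : g ∈ S := ⟨hg0, hgV.trans hVU, a, ha0, hDa⟩
    by_contra hc
    push Not at hc
    have hle : Ideal.span (T : Set Γ(X, W₀)) ≤ (hW.primeIdealOf ⟨z, hzW⟩).asIdeal :=
      Ideal.span_le.mpr fun t ht => by
        by_contra h'
        exact hc t ht ((hmemq t hzW).mpr h')
    exact (hmemq g hzW).mp hzg (hle (hspanT.le (Submodule.subset_span hgS)))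
  choose a ha0 haD using fun g : T => (hTS g.2).2.2
  have hdvd : ∀ (g b c : Γ(X, W₀)), g ≠ 0 → (res g b ∈ Ideal.span {res g c} ↔ ∃ n : ℕ, c ∣ g ^ n * b) := by
    intro g b c hg
    letI := (res g).toAlgebra
    haveI : IsLocalization.Away g Γ(X, X.basicOpen g) := hW.isLocalization_basicOpen g
    rw [Ideal.mem_span_singleton]
    constructor
    · rintro ⟨w, hw⟩
      obtain ⟨n, w', hw'⟩ := IsLocalization.Away.surj g w
      refine ⟨n, w', IsLocalization.injective Γ(X, X.basicOpen g) (powers_le_nonZeroDivisors_of_noZeroDivisors hg) ?_⟩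
      rw [map_mul, map_mul, map_pow, ← hw']
      change _ * res g b = res g c * _
      rw [hw]
      ring
    · rintro ⟨n, hn⟩
      have h3 := map_dvd (res g) hn
      rw [map_mul, map_pow] at h3
      exact (((IsLocalization.Away.algebraMap_isUnit g).pow n).dvd_mul_left).mp h3
  let J := D'.ideal ⟨W₀, hW⟩
  have hJ : ∀ b, b ∈ J ↔ ∀ j : T, ∃ n : ℕ, a j ∣ j.1 ^ n * b := by
    intro b
    rw [show (b ∈ J ↔ _) from mem_ker_ideal_iff (D.subschemeι ≫ U.ι) ⟨W₀, hW⟩
      (fun j : T => ⟨X.basicOpen j.1, hW.basicOpen j.1⟩) (fun j => X.basicOpen_le j.1) (fun z hz => by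
        obtain ⟨g, hgT, hg⟩ := hcover _ hz (D.subschemeι z).2
        exact ⟨⟨g, hgT⟩, hg⟩) b]
    refine forall_congr' fun j => ?_
    change res j.1 b ∈ D'.ideal ⟨X.basicOpen j.1, hW.basicOpen j.1⟩ ↔ _
    rw [haD j, hdvd j.1 b (a j) (hTS j.2).1]
  have hcomp : ∀ i j : T, ∃ n : ℕ, a i ∣ (i.1 * j.1) ^ n * a j := by
    intro i j
    have hij : i.1 * j.1 ≠ 0 := mul_ne_zero (hTS i.2).1 (hTS j.2).1
    rw [← hdvd (i.1 * j.1) (a j) (a i) hij]
    have hle : ∀ k : T, X.basicOpen (i.1 * j.1) ≤ X.basicOpen k.1 →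
        D'.ideal ⟨X.basicOpen (i.1 * j.1), hW.basicOpen _⟩ = Ideal.span {res (i.1 * j.1) (a k)} := by
      intro k hk
      rw [← D'.map_ideal' (U := ⟨X.basicOpen (i.1 * j.1), hW.basicOpen _⟩)
        (V := ⟨X.basicOpen k.1, hW.basicOpen k.1⟩) (homOfLE hk).op, haD k, Ideal.map_span, Set.image_singleton]
      congr 2
      change X.presheaf.map _ (X.presheaf.map _ (a k)) = X.presheaf.map _ (a k)
      rw [← CategoryTheory.comp_apply, ← Functor.map_comp]
      rfl
    rw [← hle i (by rw [X.basicOpen_mul]; exact inf_le_left),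
      hle j (by rw [X.basicOpen_mul]; exact inf_le_right)]
    exact Ideal.subset_span rfl
  obtain ⟨f, hfp, e, heJ, he0, hgen⟩ :=
    exists_principal_near p (fun j : T => j.1) a ha0 hcomp J hJ
  refine ⟨⟨X.basicOpen f, hW.basicOpen f⟩, (hmemq f hxW).mpr hfp, res f e, ?_, ?_⟩
  · letI := (res f).toAlgebra
    haveI : IsLocalization.Away f Γ(X, X.basicOpen f) := hW.isLocalization_basicOpen f
    exact IsLocalization.map_nonZeroDivisors_le (Submonoid.powers f) Γ(X, X.basicOpen f)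
      (Submonoid.mem_map_of_mem _ (mem_nonZeroDivisors_iff_ne_zero.mpr he0))
  · change D'.ideal ⟨X.basicOpen f, hW.basicOpen f⟩ = _
    rw [← D'.map_ideal' (U := ⟨X.basicOpen f, hW.basicOpen f⟩) (V := ⟨W₀, hW⟩) (homOfLE (X.basicOpen_le f)).op]
    refine le_antisymm (Ideal.map_le_iff_le_comap.mpr fun b hb => ?_) ?_
    · exact (hdvd f b e (fun h => hfp (h ▸ zero_mem p))).mpr (hgen b hb)
    · rw [Ideal.span_le, Set.singleton_subset_iff]
      exact Ideal.mem_map_of_mem _ heJ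

end Groth.Agent.InvExtend
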